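import Mathlib

/-!
A relation in the alternating group of degree six: if `a` has order four, `b` order five and `a²` inverts
`b`, then `(a * b) ^ 5 = 1`.
-/

set_option autoImplicit false
set_option maxRecDepth 100000

namespace Cfsg.Agent.H52.JThree.Uniq

open Equiv

/-- The codes of the elements of order four without fixed points. -/
def fourTab : List ℕ :=
  [23005, 34885, 30385, 20665, 35605, 26965, 37705, 24565, 4945, 38035, 3835, 16615,
   27025, 7045, 19645, 20335, 31675, 26095, 37910, 25850, 12710, 15140, 33500, 37640,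
   6860, 31520, 30050, 12770, 24470, 2510, 24830, 35240, 25520, 4820, 8780, 11840,
   38055, 11595, 17895, 37815, 7395, 32235, 14415, 32595, 17955, 22095, 10575, 15975,
   1935, 11265, 33765, 17025, 2985, 8385, 27040, 14800, 19840, 25720, 29860, 5020,
   8980, 23740, 22270, 16690, 17050, 3010, 8410, 12130, 23830, 10510, 15910, 1870,
   20345, 32945, 26285, 12545, 35045, 24245, 2285, 4265, 33935, 3515, 10535, 15935,
   1895, 25085, 4385, 16985, 2945, 8345]

/-- The codes of the elements of order five. -/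
def fiveTab : List ℕ :=
  [15240, 33600, 30180, 12900, 35400, 25680, 22950, 34830, 14850, 18090, 33030, 11430,
   30300, 20580, 22380, 11580, 26340, 12300, 35490, 26850, 34050, 17850, 19830, 25230,
   39865, 6385, 42925, 7285, 28705, 31945, 42355, 21835, 7435, 32275, 39475, 5815,
   43225, 22705, 29905, 5065, 41605, 3445, 28975, 34375, 35095, 24295, 20875, 16375,
   41150, 14150, 43130, 15050, 28910, 33230, 7460, 32300, 29960, 5120, 35180, 24380,
   39800, 6320, 40340, 13160, 42830, 7190, 39230, 8630, 28580, 31820, 5540, 2120,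
   42375, 21855, 15195, 33555, 40755, 13575, 22905, 34785, 7065, 16785, 31725, 3645,
   41055, 14055, 39255, 5595, 41715, 39375, 6795, 8955, 20985, 5685, 31425, 2265,
   43240, 22720, 30100, 12820, 41800, 11200, 30250, 20530, 22150, 3790, 26110, 4510,
   43000, 14920, 40300, 2140, 40630, 41530, 14350, 2470, 17530, 3310, 24730, 4210,
   28985, 34385, 35285, 25565, 21065, 17645, 35435, 26795, 33815, 16535, 19595, 23915,
   28745, 33065, 13085, 8585, 13415, 20795, 32495, 8735, 11045, 16265, 11765, 23645]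

/-- A value of a coded permutation. -/
def pv (a i : ℕ) : ℕ := a / 6 ^ i % 6

/-- The composite of coded permutations. -/
def pm (a b : ℕ) : ℕ :=
  pv a (pv b 0) + 6 * pv a (pv b 1) + 36 * pv a (pv b 2) + 216 * pv a (pv b 3) + 1296 * pv a (pv b 4) +
    7776 * pv a (pv b 5)

/-- The code of the identity. -/
def pid : ℕ := 44790

/-- The test on one pair. -/
def pairOK (a b : ℕ) : Bool :=
  let c := pm (pm a a) b
  let d := pm a b
  !Nat.beq (pm c c) pid || Nat.beq (pm (pm (pm d d) (pm d d)) d) pid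

theorem pairs_ok : (fourTab.all fun a => fiveTab.all fun b => pairOK a b) = true := by decide +kernel

/-- The code of a permutation. -/
def pc (a : Perm (Fin 6)) : ℕ :=
  (a 0 : ℕ) + 6 * (a 1 : ℕ) + 36 * (a 2 : ℕ) + 216 * (a 3 : ℕ) + 1296 * (a 4 : ℕ) + 7776 * (a 5 : ℕ)

theorem pv_pc (a : Perm (Fin 6)) (i : Fin 6) : pv (pc a) i = a i := by
  have := (a 0).2; have := (a 1).2; have := (a 2).2; have := (a 3).2; have := (a 4).2; have := (a 5).2
  fin_cases i <;> simp [pv, pc] <;> omega

theorem pc_mul (a b : Perm (Fin 6)) : pc (a * b) = pm (pc a) (pc b) := by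
  have h : ∀ i : Fin 6, pv (pc a) (pv (pc b) i) = (a * b) i := fun i => by
    rw [pv_pc b i, pv_pc a (b i)]; rfl
  unfold pm
  have h0 := h 0; have h1 := h 1; have h2 := h 2; have h3 := h 3; have h4 := h 4; have h5 := h 5
  simp only [Fin.val_zero, Fin.val_one, Fin.val_two] at h0 h1 h2
  simp only [show ((3 : Fin 6) : ℕ) = 3 from rfl] at h3
  simp only [show ((4 : Fin 6) : ℕ) = 4 from rfl] at h4
  simp only [show ((5 : Fin 6) : ℕ) = 5 from rfl] at h5
  rw [h0, h1, h2, h3, h4, h5]
  rfl

theorem pc_inj {a b : Perm (Fin 6)} (h : pc a = pc b) : a = b :=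
  Equiv.ext fun i => Fin.ext (by rw [← pv_pc a i, ← pv_pc b i, h])

theorem pc_one : pc 1 = pid := by decide +kernel

theorem four_fixfree : ∀ a : Perm (Fin 6), Perm.sign a = 1 → a * a * (a * a) = 1 → a * a ≠ 1 →
    ∀ i, a i ≠ i := by
  decide +kernel

theorem four_mem : ∀ a : Perm (Fin 6), a * a * (a * a) = 1 → a * a ≠ 1 → (∀ i, a i ≠ i) →
    fourTab.any (Nat.beq (pc a)) = true := by
  decide +kernel

theorem five_mem : ∀ b : Perm (Fin 6), b * b * (b * b) * b = 1 → b ≠ 1 →
    fiveTab.any (Nat.beq (pc b)) = true := by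
  decide +kernel

/-- The relation. -/
theorem alt_six_rel (a b : alternatingGroup (Fin 6)) (ha : a * a * (a * a) = 1) (ha2 : a * a ≠ 1)
    (hb : b ^ 5 = 1) (hb1 : b ≠ 1) (hab : a * a * b * (a * a * b) = 1) : (a * b) ^ 5 = 1 := by
  have e5 : ∀ c : Perm (Fin 6), c ^ 5 = c * c * (c * c) * c := fun c => by simp [pow_succ, mul_assoc]
  have hA := congrArg Subtype.val ha
  have hB := congrArg Subtype.val hb
  have hAB := congrArg Subtype.val hab
  simp only [Subgroup.coe_mul, Subgroup.coe_one, SubgroupClass.coe_pow, e5] at hA hB hAB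
  have hA2 : (a : Perm (Fin 6)) * a ≠ 1 := fun e => ha2 (Subtype.ext (by simpa using e))
  have hB1 : (b : Perm (Fin 6)) ≠ 1 := fun e => hb1 (Subtype.ext e)
  obtain ⟨x, hx, hxe⟩ := List.any_eq_true.mp
    (four_mem a hA hA2 (four_fixfree a (Perm.mem_alternatingGroup.mp a.2) hA hA2))
  obtain ⟨y, hy, hye⟩ := List.any_eq_true.mp (five_mem b hB hB1)
  have h := List.all_eq_true.mp (List.all_eq_true.mp pairs_ok x hx) y hy
  rw [← Nat.eq_of_beq_eq_true hxe, ← Nat.eq_of_beq_eq_true hye, pairOK] at h
  simp only [← pc_mul, ← pc_one, hAB, Nat.beq_refl, Bool.not_true, Bool.false_or] at h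
  refine Subtype.ext ?_
  simp only [SubgroupClass.coe_pow, Subgroup.coe_mul, Subgroup.coe_one, e5]
  exact pc_inj (Nat.eq_of_beq_eq_true h)

end Cfsg.Agent.H52.JThree.Uniq
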