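import Cfsg.Agent.H52.JThree.L16.Maps

/-!
Checks on the model used for the generators of a group of J₃ type.
-/

set_option autoImplicit false
set_option maxRecDepth 100000
set_option synthInstance.maxSize 4000

namespace Cfsg.Agent.H52.JThree.Uniq

open Code Sixteen

/-- The map of the element of the normaliser. -/
def qM : ℕ := 38689

theorem q_check : (3 : ℕ) < 1920 ∧ ∀ x < 16, cj 3 (lab x) = lab (app qM x) := by decide +kernel

/-- The map of `x`. -/
def xM : ℕ := powM hM 5

/-- The map of `y`. -/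
def yM : ℕ := powM hM 3

/-- The images of the first basis involution. -/
def eP (i : ℕ) : ℕ := app (powM hM i) 1

theorem map_facts :
    comp qM qM = idM ∧ comp qM xM = comp xM qM ∧ comp sM xM = comp xM sM ∧ comp yM xM = comp xM yM ∧
    powM (comp qM sM) 2 = idM ∧ powM (comp qM yM) 3 = idM ∧ powM (comp (comp qM sM) yM) 5 = idM ∧
    app qM 1 = 1 ∧ app sM 1 = 1 ∧ app qM (eP 1) = Nat.xor (eP 0) (eP 2) ∧
    app qM (eP 2) = Nat.xor (eP 0) (eP 1) ∧ app qM (eP 3) = Nat.xor (Nat.xor (eP 1) (eP 2)) (eP 3) ∧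
    eP 4 = Nat.xor (eP 0) (eP 1) ∧ eP 0 = 1 ∧ eP 5 = 2 ∧ eP 10 = 3 ∧ qM ≠ sM ∧ qM ≠ idM ∧ sM ≠ idM := by
  decide +kernel

theorem xM_solve : (∀ v < 16, app xM v = v → v = 0) ∧
    ∀ c < 16, ∃ v < 16, Nat.xor v (app xM v) = c := by decide +kernel

theorem conj_words :
    comp (comp (comp (comp (powM hM 12) (powM hM 12)) qM) yM) sM =
      comp qM (comp (comp (comp (powM hM 12) (powM hM 12)) qM) yM) ∧
    comp (comp (comp (comp (powM hM 12) qM) yM) yM) sM =
      comp (comp qM sM) (comp (comp (comp (powM hM 12) qM) yM) yM) := by decide +kernel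

theorem shift_to_one : ∀ p < 4, p ≠ 0 → ∃ k < 3, app (powM hM (5 * k)) p = 1 := by decide +kernel

/-- The eight elements of the dihedral group. -/
def dihL (Q W : ℕ) : List ℕ :=
  let d := Code.mul (Code.mul (Code.mul W Q) W) Q
  let L := [0, d, Code.mul d d, powN d 3]
  L ++ L.map (Code.mul Q)

/-- No repetitions. -/
def distinctB : List ℕ → Bool
  | [] => true
  | a :: l => !l.any (Nat.beq a) && distinctB l

theorem distinctB_spec : ∀ {l : List ℕ}, distinctB l = true → l.Nodup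
  | [], _ => List.nodup_nil
  | a :: l, h => by
    simp only [distinctB, Bool.and_eq_true, Bool.not_eq_true', ← Bool.not_eq_true, List.any_eq_true] at h
    exact List.nodup_cons.mpr ⟨fun ha => h.1 ⟨a, ha, Nat.beq_refl a⟩, distinctB_spec h.2⟩

/-- The conditions on a configuration inside the centraliser of an involution. -/
def cfgOK (X U Q W : ℕ) : Bool :=
  let d := Code.mul (Code.mul (Code.mul W Q) W) Q
  let L := dihL Q W
  let k := powN (Code.mul (Code.mul (Code.mul X U) Q) W) 5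
  Nat.beq (powN (Code.mul Q W) 4) 16 && (Nat.beq k 16 || Nat.beq k 0) && Nat.beq (Code.mul d d) 16 &&
    Nat.beq (Code.mul Q d) (Code.mul (powN d 3) Q) && distinctB L &&
    (List.range 1920).all fun j => cond (Nat.beq (Code.mul j X) (Code.mul X j))
      ([0, X, Code.mul X X].any fun a => L.any fun e => Nat.beq (Code.mul a e) j) true

/-- The test of a configuration. -/
def cfgTest (U : ℕ) : Bool :=
  let b := cj 32 U
  let ub := Code.mul U b
  cond (!Nat.beq U 16 && !Nat.beq b 16 && Nat.beq (Code.mul b U) ub && !Nat.beq ub 16 &&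
      Nat.beq (cj 32 b) ub)
    (invList.all fun Q => cond (!Nat.beq Q 16 && Nat.beq (Code.mul Q 32) (Code.mul 32 Q) &&
        Nat.beq (Code.mul Q U) (Code.mul U Q))
      (invList.all fun W => cond (Nat.beq (cj W 32) (Code.inv 32) && Nat.beq (powN (Code.mul U W) 3) 0)
        (cfgOK 32 U Q W) true) true)
    true

theorem cfg_check : (invList.all cfgTest) = true := by decide +kernel

theorem cfg_spec {U Q W : ℕ} (hU : U ∈ invList) (hQ : Q ∈ invList) (hW : W ∈ invList)
    (c : (!Nat.beq U 16 && !Nat.beq (cj 32 U) 16 && Nat.beq (Code.mul (cj 32 U) U) (Code.mul U (cj 32 U)) &&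
      !Nat.beq (Code.mul U (cj 32 U)) 16 && Nat.beq (cj 32 (cj 32 U)) (Code.mul U (cj 32 U))) = true)
    (d : (!Nat.beq Q 16 && Nat.beq (Code.mul Q 32) (Code.mul 32 Q) && Nat.beq (Code.mul Q U) (Code.mul U Q)) = true)
    (e : (Nat.beq (cj W 32) (Code.inv 32) && Nat.beq (powN (Code.mul U W) 3) 0) = true) :
    cfgOK 32 U Q W = true := by
  have h := List.all_eq_true.mp cfg_check U hU
  rw [cfgTest, c, cond_true] at h
  have h := List.all_eq_true.mp h Q hQ
  rw [d, cond_true] at h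
  have h := List.all_eq_true.mp h W hW
  rw [e, cond_true] at h
  exact h

theorem cfgOK_spec {X U Q W : ℕ} (h : cfgOK X U Q W = true) :
    powN (Code.mul Q W) 4 = 16 ∧
    (powN (Code.mul (Code.mul (Code.mul X U) Q) W) 5 = 16 ∨ powN (Code.mul (Code.mul (Code.mul X U) Q) W) 5 = 0) ∧
    Code.mul (Code.mul (Code.mul (Code.mul W Q) W) Q) (Code.mul (Code.mul (Code.mul W Q) W) Q) = 16 ∧
    Code.mul Q (Code.mul (Code.mul (Code.mul W Q) W) Q) =
      Code.mul (powN (Code.mul (Code.mul (Code.mul W Q) W) Q) 3) Q ∧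
    distinctB (dihL Q W) = true ∧
    ∀ j < 1920, Code.mul j X = Code.mul X j →
      ∃ a ∈ [0, X, Code.mul X X], ∃ e ∈ dihL Q W, Code.mul a e = j := by
  rw [cfgOK] at h
  simp only [Bool.and_eq_true, Bool.or_eq_true] at h
  obtain ⟨⟨⟨⟨⟨g1, g2⟩, g3⟩, g4⟩, g5⟩, g6⟩ := h
  refine ⟨Nat.eq_of_beq_eq_true g1, g2.imp Nat.eq_of_beq_eq_true Nat.eq_of_beq_eq_true,
    Nat.eq_of_beq_eq_true g3, Nat.eq_of_beq_eq_true g4, g5, fun j hj hjx => ?_⟩
  have h := List.all_eq_true.mp g6 j (List.mem_range.mpr hj)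
  rw [hjx, Nat.beq_refl, cond_true] at h
  obtain ⟨a, ha, h⟩ := List.any_eq_true.mp h
  obtain ⟨e, he, h⟩ := List.any_eq_true.mp h
  exact ⟨a, ha, e, he, Nat.eq_of_beq_eq_true h⟩

theorem three_rep : rep 4 = 32 ∧ (threeList.all fun i => Nat.beq (cls i) 4) = true := by decide +kernel

end Cfsg.Agent.H52.JThree.Uniq
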