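import Cfsg.Agent.H52.JThree.L16.Main
import Cfsg.Agent.H52.JThree.Uniq.Codes

/-!
Generators of a group of J₃ type: `t` of order fifteen and `q` in the normaliser of the subgroup of order
sixteen, the field automorphism `σ` and the involution `w` inverting `t`.
-/

set_option autoImplicit false
set_option maxRecDepth 10000
set_option linter.style.haveILetI false
set_option linter.unusedSectionVars false

namespace Cfsg.Agent.H52.JThree.Uniq

open Sixteen Code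

variable {G : Type*} [Group G]

/-- The generators. -/
structure Base (F : Frame G) where
  t : G
  σ : G
  q : G
  w : G
  t_real : Real F hM t
  σ_real : Real F sM σ
  q_real : Real F qM q
  t15 : t ^ 15 = 1
  σσ : σ * σ = 1
  σt : σ * t * σ⁻¹ = t ^ 4
  q_x : q * t ^ 5 = t ^ 5 * q
  ww : w * w = 1
  σw : σ * w = w * σ
  wt : w * t * w = t ^ 14
  rel : (P F 1 * w) ^ 3 = 1

theorem exists_base [Finite G] (F : Frame G) (hG : Nat.card G = 50232960) : Nonempty (Base F) := by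
  classical
  obtain ⟨t, σ, w, p, hp, hp0, ht, hσ, ht15, hσσ, hσ1, hσt, hww, hσw, hwt, hrel⟩ := exists_local F hG
  obtain ⟨f11, f14, -, -⟩ := eleven_false
  rcases hwt with hwt | hwt
  swap
  · obtain ⟨L, -, -, hs, -⟩ := exists_line F hp hp0 ht ht15 hww f11 hwt hrel
    exact (no_eleven L hs).elim
  obtain ⟨k, hk, hkp⟩ := shift_to_one p hp hp0
  set m := 5 * k with hm
  have hc : t ^ m * P F p * (t ^ m)⁻¹ = P F 1 := by rw [real_pow F ht m p (by omega), hkp]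
  have hσx : σ * t ^ m * σ⁻¹ = t ^ m := by
    rw [← conj_pow, hσt, ← pow_mul, show 4 * m = 15 * k + m by omega, pow_add, pow_mul, ht15, one_pow, one_mul]
  -- an element inducing the map and commuting with `x`
  obtain ⟨hxM1, hxM2⟩ := xM_solve
  have h5 : Real F xM (t ^ 5) := real_pow F ht 5
  have hg0 : Real F qM (F.φ 3) := by
    intro x hx
    show F.φ 3 * F.φ (lab x) * (F.φ 3)⁻¹ = F.φ (lab (app qM x))
    rw [← q_check.2 x hx, cj, F.conj_code q_check.1 (lab_lt x hx)]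
  set g0 := F.φ 3 with hg0d
  obtain ⟨c, hc16, hce⟩ := real_id F (g := g0⁻¹ * (t ^ 5) * g0 * (t ^ 5)⁻¹) (by
    intro z hz
    have hqx := map_facts.2.1
    have key : ∀ v < 16, t ^ 5 * g0 * P F v * (t ^ 5 * g0)⁻¹ = g0 * (t ^ 5 * P F v * (t ^ 5)⁻¹) * g0⁻¹ := by
      intro v hv
      exact (real_comp F h5 hg0 v hv).trans ((congrArg (fun M => P F (app M v)) hqx.symm).trans
        ((real_comp F hg0 h5 v hv).symm.trans (by group)))
    rw [idM_app z hz]
    obtain ⟨v, hv, hve⟩ : ∃ v < 16, P F z = t ^ 5 * P F v * (t ^ 5)⁻¹ := by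
      obtain ⟨v, hv, e⟩ : ∃ v < 16, app xM v = z :=
        (by decide +kernel : ∀ z < 16, ∃ v < 16, app xM v = z) z hz
      exact ⟨v, hv, by rw [h5 v hv, e]⟩
    rw [hve]
    calc g0⁻¹ * t ^ 5 * g0 * (t ^ 5)⁻¹ * (t ^ 5 * P F v * (t ^ 5)⁻¹) * (g0⁻¹ * t ^ 5 * g0 * (t ^ 5)⁻¹)⁻¹
        = g0⁻¹ * (t ^ 5 * g0 * P F v * (t ^ 5 * g0)⁻¹) * g0 := by group
      _ = _ := by rw [key v hv]; group)
  obtain ⟨v, hv, hvc⟩ := hxM2 c hc16
  have hX : t ^ 5 * g0 * (t ^ 5)⁻¹ = g0 * P F c := by rw [← hce]; group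
  refine ⟨⟨t, σ, g0 * P F v, t ^ m * w * (t ^ m)⁻¹, ht, hσ, ?_, ht15, hσσ, hσt, ?_, ?_, ?_, ?_, ?_⟩⟩
  · intro x hx
    rw [show g0 * P F v * P F x * (g0 * P F v)⁻¹ = g0 * (P F v * P F x * (P F v)⁻¹) * g0⁻¹ by group,
      P_comm F hv hx, mul_inv_cancel_right]
    exact hg0 x hx
  · have hPv : t ^ 5 * P F v * (t ^ 5)⁻¹ = P F (app xM v) := h5 v hv
    have e : t ^ 5 * (g0 * P F v) * (t ^ 5)⁻¹ = g0 * P F v := by
      rw [show t ^ 5 * (g0 * P F v) * (t ^ 5)⁻¹ = t ^ 5 * g0 * (t ^ 5)⁻¹ * (t ^ 5 * P F v * (t ^ 5)⁻¹) by group,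
        hX, hPv, mul_assoc, ← P_xor F hc16 (app_lt _ _), ← hvc]
      congr 2
      show Nat.xor (Nat.xor v (app xM v)) (app xM v) = v
      show (v ^^^ app xM v) ^^^ app xM v = v
      rw [Nat.xor_assoc, Nat.xor_self, Nat.xor_zero]
    exact (mul_inv_eq_iff_eq_mul.mp e).symm
  · rw [show t ^ m * w * (t ^ m)⁻¹ * (t ^ m * w * (t ^ m)⁻¹) = t ^ m * (w * w) * (t ^ m)⁻¹ by group, hww]
    group
  · have h1 : σ * t ^ m = t ^ m * σ := mul_inv_eq_iff_eq_mul.mp hσx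
    exact Commute.mul_right (Commute.mul_right (show Commute σ (t ^ m) from h1) hσw)
      (Commute.inv_right (show Commute σ (t ^ m) from h1))
  · have h1 : t ^ m * t = t * t ^ m := (Commute.pow_self t m).eq
    rw [show t ^ m * w * (t ^ m)⁻¹ * t * (t ^ m * w * (t ^ m)⁻¹) =
      t ^ m * (w * ((t ^ m)⁻¹ * t * t ^ m) * w) * (t ^ m)⁻¹ by group,
      show (t ^ m)⁻¹ * t * t ^ m = t by rw [mul_assoc, ← h1, inv_mul_cancel_left], hwt,
      ← conj_pow, show t ^ m * t * (t ^ m)⁻¹ = t by rw [h1, mul_inv_cancel_right]]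
  · rw [← hc, show t ^ m * P F p * (t ^ m)⁻¹ * (t ^ m * w * (t ^ m)⁻¹) = t ^ m * (P F p * w) * (t ^ m)⁻¹ by group,
      conj_pow, hrel]
    group

end Cfsg.Agent.H52.JThree.Uniq
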