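import Cfsg.Agent.H52.JThree.Uniq.Norm

/-!
The relations of the generators inside the centraliser of the field automorphism.
-/

set_option autoImplicit false
set_option maxRecDepth 10000
set_option linter.style.haveILetI false
set_option linter.unusedSectionVars false

namespace Cfsg.Agent.H52.JThree.Uniq

open Sixteen Code

attribute [local irreducible] Code.mul powN Code.inv cls wit rep invList threeList

variable {G : Type*} [Group G] {F : Frame G} (B : Base F)

/-- The centraliser frame re-coordinatised by an element of the centraliser. -/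
theorem exists_frame_three [Finite G] (F' : Frame G) {a : G} (ha : a ^ 3 = 1) (ha1 : a ≠ 1)
    (hac : a * F'.z = F'.z * a) : ∃ F'' : Frame G, F''.z = F'.z ∧ F''.φ 32 = a := by
  obtain ⟨i, hi, rfl⟩ := (F'.mem a).mp hac
  have h3 : Code.mul (Code.mul i i) i = 0 := F'.inj (Code.mul_lt (Code.mul_lt hi hi) hi) (by norm_num) (by
    rw [F'.map_mul (Code.mul_lt hi hi) hi, F'.map_mul hi hi, F'.map_zero, ← ha, pow_three, mul_assoc])
  have hc : cls i = 4 := by
    have h := List.all_eq_true.mp three_list_check i (List.mem_range.mpr hi)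
    simp only [h3, Nat.beq_refl, cond_true, Bool.or_eq_true] at h
    rcases h with h | h
    · exact absurd (by rw [Nat.eq_of_beq_eq_true h, F'.map_zero]) ha1
    · obtain ⟨j, hj, he⟩ := List.any_eq_true.mp h
      rw [Nat.eq_of_beq_eq_true he]
      exact Nat.eq_of_beq_eq_true (List.all_eq_true.mp three_rep.2 j hj)
  obtain ⟨c, hcz, hce⟩ := F'.exists_conj_rep hi
  rw [hc, three_rep.1] at hce
  have hcz' : c⁻¹ * F'.z = F'.z * c⁻¹ := Commute.inv_left (show Commute c F'.z from hcz)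
  refine ⟨{
    z := F'.z
    φ := fun j => c * F'.φ j * c⁻¹
    hz := F'.hz
    map_mul := fun {i j} hi hj => by
      show c * F'.φ (Code.mul i j) * c⁻¹ = c * F'.φ i * c⁻¹ * (c * F'.φ j * c⁻¹)
      rw [F'.map_mul hi hj]; group
    inj := fun {i j} hi hj h => F'.inj hi hj (mul_left_cancel (mul_right_cancel h))
    map_z := by show c * F'.φ 16 * c⁻¹ = F'.z; rw [F'.map_z, hcz, mul_inv_cancel_right]
    mem := fun g => by
      constructor
      · intro hg
        obtain ⟨j, hj, he⟩ := (F'.mem (c⁻¹ * g * c)).mp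
          (Commute.mul_left (Commute.mul_left (show Commute c⁻¹ F'.z from hcz') hg) hcz)
        exact ⟨j, hj, by show c * F'.φ j * c⁻¹ = g; rw [he]; group⟩
      · rintro ⟨j, hj, rfl⟩
        exact Commute.mul_left (Commute.mul_left (show Commute c F'.z from hcz) (F'.comm_z hj)) hcz'
    hone := F'.hone }, rfl, hce⟩

namespace Base

theorem x_ne : B.x ≠ 1 := by
  intro he
  have h : app xM 1 = app idM 1 := real_ext F B.x_real (by rw [he]; exact real_one F) (by norm_num)
  exact absurd h (by decide +kernel)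

theorem σ_ne : B.σ ≠ 1 := fun h => B.σ_ne_P (v := 0) (by norm_num) (by rw [h, P_zero])

theorem q_ne : B.q ≠ 1 := by
  intro he
  have h : app qM 8 = app idM 8 := real_ext F B.q_real (by rw [he]; exact real_one F) (by norm_num)
  exact absurd h (by decide +kernel)

theorem q_ne_σ : B.q ≠ B.σ := by
  intro he
  have h : app qM 8 = app sM 8 := real_ext F B.q_real (by rw [he]; exact B.σ_real) (by norm_num)
  exact absurd h (by decide +kernel)

/-- The generator of the cyclic subgroup of order four of the dihedral group. -/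
def d : G := B.w * B.q * B.w * B.q

/-- What the centraliser of `σ` gives. -/
structure Local (B : Base F) : Prop where
  qw : (B.q * B.w) ^ 4 = B.σ
  kind : (B.x * B.u * B.q * B.w) ^ 5 = B.σ ∨ (B.x * B.u * B.q * B.w) ^ 5 = 1
  dd : B.d * B.d = B.σ
  qd : B.q * B.d = B.d ^ 3 * B.q
  distinct : [1, B.d, B.d * B.d, B.d ^ 3, B.q, B.q * B.d, B.q * (B.d * B.d), B.q * B.d ^ 3].Nodup
  cover : ∀ c : G, c * B.σ = B.σ * c → c * B.x = B.x * c →
    ∃ a ∈ [1, B.x, B.x * B.x], ∃ e ∈ [1, B.d, B.d * B.d, B.d ^ 3, B.q, B.q * B.d, B.q * (B.d * B.d), B.q * B.d ^ 3],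
      c = a * e

theorem exists_local_facts [Finite G] : Local B := by
  classical
  haveI := Fintype.ofFinite G
  obtain ⟨F', hF'⟩ := exists_frame_at F (orderOf_eq_prime (p := 2) (by rw [pow_two]; exact B.σσ) B.σ_ne)
  obtain ⟨F'', hz, hx⟩ := exists_frame_three F' B.x_three B.x_ne (by rw [hF']; exact B.σ_x.symm)
  rw [hF'] at hz
  clear hF' F'
  have hcode : ∀ g : G, g * B.σ = B.σ * g → ∃ i < 1920, F''.φ i = g := fun g hg =>
    (F''.mem g).mp (by rw [hz]; exact hg)
  obtain ⟨U, hU, hUe⟩ := hcode B.u B.σ_u.symm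
  obtain ⟨Q, hQ, hQe⟩ := hcode B.q B.q_σ
  obtain ⟨W, hW, hWe⟩ := hcode B.w B.σw.symm
  have h32 : (32 : ℕ) < 1920 := by norm_num
  have h0 : (0 : ℕ) < 1920 := by norm_num
  have h16 : (16 : ℕ) < 1920 := by norm_num
  have hpw : ∀ {i : ℕ} (_ : i < 1920) (n : ℕ), powN i n < 1920 ∧ F''.φ (powN i n) = F''.φ i ^ n :=
    fun hi n => F''.φ_pow hi n
  have hcj : ∀ {i j : ℕ}, i < 1920 → j < 1920 → cj i j < 1920 ∧ F''.φ (cj i j) = F''.φ i * F''.φ j * (F''.φ i)⁻¹ :=
    fun hi hj => ⟨Code.mul_lt (Code.mul_lt hi hj) (inv_lt hi), F''.conj_code hi hj⟩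
  have hne : ∀ {i : ℕ} {g : G}, i < 1920 → F''.φ i = g → g ≠ B.σ → Nat.beq i 16 = false := fun hi he hg => by
    rw [Bool.eq_false_iff]
    intro hb
    rw [Nat.eq_of_beq_eq_true hb, F''.map_z, hz] at he
    exact hg he.symm
  have hinv : ∀ {i : ℕ} {g : G}, i < 1920 → F''.φ i = g → g * g = 1 → g ≠ 1 → i ∈ invList := fun hi he hgg hg => by
    have hii : Code.mul _ _ = 0 := F''.inj (Code.mul_lt hi hi) h0 (by rw [F''.map_mul hi hi, F''.map_zero, he, hgg])
    have h := List.all_eq_true.mp inv_list_check _ (List.mem_range.mpr hi)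
    simp only [hii, Nat.beq_refl, cond_true, Bool.or_eq_true] at h
    rcases h with h | h
    · rw [Nat.eq_of_beq_eq_true h, F''.map_zero] at he; exact absurd he.symm hg
    · obtain ⟨j, hj, hje⟩ := List.any_eq_true.mp h
      exact Nat.eq_of_beq_eq_true hje ▸ hj
  have hbe : ∀ {i j : ℕ}, i < 1920 → j < 1920 → F''.φ i = F''.φ j → Nat.beq i j = true := fun hi hj h => by
    rw [F''.inj hi hj h]; exact Nat.beq_refl _
  -- the hypotheses of the check
  have hxu : B.x * B.u * B.x⁻¹ = P F 2 := by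
    rw [x, B.conj_P 5, map_facts.2.2.2.2.2.2.2.2.2.2.2.2.2.2.1]
  obtain ⟨hb, hbφ⟩ := hcj h32 hU
  rw [hx, hUe, hxu] at hbφ
  have hub : F''.φ (Code.mul U (cj 32 U)) = P F 3 := by
    rw [F''.map_mul hU hb, hUe, hbφ, u, ← P_xor F (by norm_num) (by norm_num)]; rfl
  have c1 : (!Nat.beq U 16) = true := by rw [hne hU hUe (B.σ_ne_P (by norm_num)).symm]; rfl
  have c2 : (!Nat.beq (cj 32 U) 16) = true := by rw [hne hb hbφ (B.σ_ne_P (by norm_num)).symm]; rfl
  have c3 : Nat.beq (Code.mul (cj 32 U) U) (Code.mul U (cj 32 U)) = true := hbe (Code.mul_lt hb hU)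
    (Code.mul_lt hU hb) (by rw [hub, F''.map_mul hb hU, hbφ, hUe, u, ← P_xor F (by norm_num) (by norm_num)]; rfl)
  have c4 : (!Nat.beq (Code.mul U (cj 32 U)) 16) = true := by
    rw [hne (Code.mul_lt hU hb) hub (B.σ_ne_P (by norm_num)).symm]; rfl
  have c5 : Nat.beq (cj 32 (cj 32 U)) (Code.mul U (cj 32 U)) = true := hbe (hcj h32 hb).1 (Code.mul_lt hU hb) (by
    rw [hub, (hcj h32 hb).2, hx, hbφ, B.x_real 2 (by norm_num)]
    exact congrArg (P F) (by decide +kernel))
  have hu1 : B.u ≠ 1 := fun h => absurd (P_inj F (x := 1) (y := 0) (by norm_num) (by norm_num)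
    (h.trans (P_zero F).symm)) (by norm_num)
  have hw1 : B.w ≠ 1 := fun h => B.x_ne (by
    have h2 : B.x⁻¹ = B.x := by rw [← B.w_x, h]; group
    have h3 := B.x_three
    rw [pow_succ, pow_two] at h3
    nth_rw 1 [← h2] at h3
    rwa [inv_mul_cancel, one_mul] at h3)
  have d1 : (!Nat.beq Q 16) = true := by rw [hne hQ hQe B.q_ne_σ]; rfl
  have d2 : Nat.beq (Code.mul Q 32) (Code.mul 32 Q) = true := hbe (Code.mul_lt hQ h32) (Code.mul_lt h32 hQ)
    (by rw [F''.map_mul hQ h32, F''.map_mul h32 hQ, hx, hQe]; exact B.q_comm)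
  have d3 : Nat.beq (Code.mul Q U) (Code.mul U Q) = true := hbe (Code.mul_lt hQ hU) (Code.mul_lt hU hQ)
    (by rw [F''.map_mul hQ hU, F''.map_mul hU hQ, hQe, hUe]; exact B.q_u)
  have e1 : Nat.beq (cj W 32) (Code.inv 32) = true := hbe (hcj hW h32).1 (inv_lt h32)
    (by rw [(hcj hW h32).2, F''.map_inv h32, hWe, hx, B.w_x])
  have e2 : Nat.beq (powN (Code.mul U W) 3) 0 = true := hbe (hpw (Code.mul_lt hU hW) 3).1 h0
    (by rw [(hpw (Code.mul_lt hU hW) 3).2, F''.map_mul hU hW, hUe, hWe, F''.map_zero]; exact B.rel)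
  obtain ⟨g1, g2, g3, g4, g5, g6⟩ := cfgOK_spec (cfg_spec (hinv hU hUe B.uu hu1) (hinv hQ hQe B.qq B.q_ne)
    (hinv hW hWe B.ww hw1) (by rw [c1, c2, c3, c4, c5]; rfl) (by rw [d1, d2, d3]; rfl) (by rw [e1, e2]; rfl))
  set D := Code.mul (Code.mul (Code.mul W Q) W) Q with hD
  have hDl : D < 1920 := Code.mul_lt (Code.mul_lt (Code.mul_lt hW hQ) hW) hQ
  have hDe : F''.φ D = B.d := by
    rw [hD, F''.map_mul (Code.mul_lt (Code.mul_lt hW hQ) hW) hQ, F''.map_mul (Code.mul_lt hW hQ) hW,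
      F''.map_mul hW hQ, hWe, hQe]; rfl
  have hLlt : ∀ e ∈ dihL Q W, e < 1920 := by
    intro e he
    simp only [dihL, ← hD, List.cons_append, List.nil_append, List.map_cons, List.map_nil, List.mem_cons,
      List.not_mem_nil, or_false] at he
    have h2 := Code.mul_lt hDl hDl
    have h3 := (hpw hDl 3).1
    rcases he with rfl | rfl | rfl | rfl | rfl | rfl | rfl | rfl
    exacts [h0, hDl, h2, h3, Code.mul_lt hQ h0, Code.mul_lt hQ hDl, Code.mul_lt hQ h2, Code.mul_lt hQ h3]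
  have hL : (dihL Q W).map F''.φ =
      [1, B.d, B.d * B.d, B.d ^ 3, B.q, B.q * B.d, B.q * (B.d * B.d), B.q * B.d ^ 3] := by
    simp only [dihL, ← hD, List.cons_append, List.nil_append, List.map_cons, List.map_nil]
    rw [F''.map_mul hQ h0, F''.map_mul hQ hDl, F''.map_mul hQ (Code.mul_lt hDl hDl), F''.map_mul hQ (hpw hDl 3).1,
      F''.map_mul hDl hDl, (hpw hDl 3).2, hDe, hQe, F''.map_zero, mul_one]
  have hxu' : F''.φ (Code.mul (Code.mul (Code.mul 32 U) Q) W) = B.x * B.u * B.q * B.w := by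
    rw [F''.map_mul (Code.mul_lt (Code.mul_lt h32 hU) hQ) hW, F''.map_mul (Code.mul_lt h32 hU) hQ,
      F''.map_mul h32 hU, hx, hUe, hQe, hWe]
  refine ⟨?_, ?_, ?_, ?_, ?_, ?_⟩
  · rw [← hQe, ← hWe, ← F''.map_mul hQ hW, ← (hpw (Code.mul_lt hQ hW) 4).2, g1,
      F''.map_z, hz]
  · rw [← hxu', ← (hpw (Code.mul_lt (Code.mul_lt (Code.mul_lt h32 hU) hQ) hW) 5).2]
    rcases g2 with g2 | g2
    · left; rw [g2, F''.map_z, hz]
    · right; rw [g2, F''.map_zero]
  · rw [← hDe, ← F''.map_mul hDl hDl, g3, F''.map_z, hz]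
  · rw [← hDe, ← hQe, ← F''.map_mul hQ hDl, g4, F''.map_mul (hpw hDl 3).1 hQ, (hpw hDl 3).2]
  · rw [← hL]
    exact (distinctB_spec g5).map_on fun a ha b hb hab => F''.inj (hLlt a ha) (hLlt b hb) hab
  · intro c hc hcx
    obtain ⟨j, hj, rfl⟩ := hcode c hc
    obtain ⟨a, ha, e, he, h⟩ := g6 j hj (F''.inj (Code.mul_lt hj h32) (Code.mul_lt h32 hj)
      (by rw [F''.map_mul hj h32, F''.map_mul h32 hj, hx]; exact hcx))
    have hal : a < 1920 := by
      simp only [List.mem_cons, List.not_mem_nil, or_false] at ha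
      rcases ha with rfl | rfl | rfl
      · exact h0
      · exact h32
      · exact Code.mul_lt h32 h32
    refine ⟨F''.φ a, ?_, F''.φ e, hL ▸ List.mem_map_of_mem he, ?_⟩
    · simp only [List.mem_cons, List.not_mem_nil, or_false] at ha ⊢
      rcases ha with rfl | rfl | rfl
      · exact Or.inl F''.map_zero
      · exact Or.inr (Or.inl hx)
      · exact Or.inr (Or.inr (by rw [F''.map_mul h32 h32, hx]))
    · rw [← F''.map_mul hal (hLlt e he), h]

end Base

end Cfsg.Agent.H52.JThree.Uniq
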