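import Cfsg.Agent.H52.JThree.Uniq.Cfg
import Cfsg.Agent.H52.JThree.Uniq.AltSix
import Cfsg.Agent.H43.JTwo.ThreeA
import Cfsg.Agent.H65.DihedralFusion
import Cfsg.Agent.S0497

/-!
The centraliser of `x` modulo `x` is the alternating group of degree six; this gives a relation.
-/

set_option autoImplicit false
set_option maxRecDepth 10000
set_option linter.style.haveILetI false
set_option linter.unusedSectionVars false

namespace Cfsg.Agent.H52.JThree.Uniq

open Sixteen Subgroup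
open Cfsg.Agent.H43.JTwo (qm qm_mul qm_eq_one qm_congr CQ d8_cases d8_sq exists_invol_lift cent_equiv)

variable {G : Type*} [Group G] {F : Frame G} (B : Base F)

namespace Base

theorem y_ne : B.y ≠ 1 := by
  intro he
  have h : app yM 1 = app idM 1 := real_ext F B.y_real (by rw [he]; exact real_one F) (by norm_num)
  exact absurd h (by decide +kernel)

theorem x_order : orderOf B.x = 3 := by
  haveI : Fact (Nat.Prime 3) := ⟨by norm_num⟩
  exact orderOf_eq_prime B.x_three B.x_ne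

theorem w_conj_comm {c : G} (hc : c * B.x = B.x * c) : B.w * c * B.w * B.x = B.x * (B.w * c * B.w) := by
  have h1 : B.w * B.x = B.x⁻¹ * B.w := mul_inv_eq_iff_eq_mul.mp B.w_x
  have h2 : B.w * B.x⁻¹ = B.x * B.w :=
    mul_inv_eq_iff_eq_mul.mp (by rw [← conj_inv, B.w_x, inv_inv])
  have h3 : c * B.x⁻¹ = B.x⁻¹ * c := Commute.inv_right (show Commute c B.x from hc)
  rw [mul_assoc _ B.w B.x, h1, ← mul_assoc, mul_assoc B.w, h3, ← mul_assoc B.w, h2]
  group

theorem σ_conj_q : ∃ c : G, c * B.x = B.x * c ∧ c * B.σ * c⁻¹ = B.q := by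
  obtain ⟨h1, -⟩ := conj_words
  set c := B.t ^ 12 * B.t ^ 12 * B.q * B.y with hc
  have ht : Commute (B.t ^ 12) B.x := Commute.pow_pow_self B.t 12 5
  have hcx : Commute c B.x := ((ht.mul_left ht).mul_left B.q_comm).mul_left B.y_comm
  have hr := real_comp F (real_comp F (real_comp F (real_pow F B.t_real 12) (real_pow F B.t_real 12)) B.q_real) B.y_real
  refine ⟨c, hcx, mul_inv_eq_iff_eq_mul.mpr (B.eq_of_real (real_comp F hr B.σ_real) ?_ ?_ ?_)⟩
  · rw [show yM = powM hM 3 from rfl] at *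
    rw [h1]
    exact real_comp F B.q_real hr
  · exact hcx.mul_left B.σ_x
  · exact B.q_comm.mul_left hcx

theorem σ_conj_qσ : ∃ c : G, c * B.x = B.x * c ∧ c * B.σ * c⁻¹ = B.q * B.σ := by
  obtain ⟨-, h1⟩ := conj_words
  set c := B.t ^ 12 * B.q * B.y * B.y with hc
  have ht : Commute (B.t ^ 12) B.x := Commute.pow_pow_self B.t 12 5
  have hcx : Commute c B.x := ((ht.mul_left B.q_comm).mul_left B.y_comm).mul_left B.y_comm
  have hr := real_comp F (real_comp F (real_comp F (real_pow F B.t_real 12) B.q_real) B.y_real) B.y_real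
  refine ⟨c, hcx, mul_inv_eq_iff_eq_mul.mpr (B.eq_of_real (real_comp F hr B.σ_real) ?_ ?_ ?_)⟩
  · rw [show yM = powM hM 3 from rfl] at *
    rw [h1]
    exact real_comp F (real_comp F B.q_real B.σ_real) hr
  · exact hcx.mul_left B.σ_x
  · exact (B.q_comm.mul_left B.σ_x).mul_left hcx

variable (L : Local B)
include L

theorem d_four : B.d ^ 4 = 1 := by
  rw [show (4 : ℕ) = 2 + 2 from rfl, pow_add, pow_two, L.dd, B.σσ]

theorem qdq : B.q * B.d * B.q = B.d⁻¹ := by
  rw [L.qd, mul_assoc, B.qq, mul_one]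
  exact eq_inv_of_mul_eq_one_left (by rw [← pow_succ, B.d_four L])

theorem conj_cases : ∀ g ∈ [B.q, B.q * B.d, B.q * (B.d * B.d), B.q * B.d ^ 3],
    ∃ c : G, c * B.x = B.x * c ∧ c * B.σ * c⁻¹ = g := by
  obtain ⟨a, ha, hae⟩ := B.σ_conj_q
  obtain ⟨b, hb, hbe⟩ := B.σ_conj_qσ
  have hwσ : B.w * B.σ * B.w = B.σ := by rw [← B.σw, mul_assoc, B.ww, mul_one]
  have h3 : B.q * B.d ^ 3 = B.w * B.q * B.w := by
    have : B.d ^ 3 = B.d⁻¹ := eq_inv_of_mul_eq_one_left (by rw [← pow_succ, B.d_four L])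
    rw [this, ← B.qdq L, ← mul_assoc, ← mul_assoc, B.qq, one_mul, d, mul_assoc (B.w * B.q * B.w), B.qq, mul_one]
  have h1 : B.q * B.d = B.w * (B.q * B.σ) * B.w := by
    rw [show B.q * B.d = B.q * B.d ^ 3 * (B.d * B.d) by
      rw [mul_assoc, ← pow_two, ← pow_add, show 3 + 2 = 4 + 1 from rfl, pow_add, B.d_four L, one_mul, pow_one],
      h3, L.dd, mul_assoc _ B.w B.σ, ← B.σw]
    group
  intro g hg
  simp only [List.mem_cons, List.not_mem_nil, or_false] at hg
  rcases hg with rfl | rfl | rfl | rfl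
  · exact ⟨a, ha, hae⟩
  · refine ⟨B.w * b * B.w, B.w_conj_comm hb, ?_⟩
    rw [h1, show B.w * b * B.w * B.σ * (B.w * b * B.w)⁻¹ = B.w * b * (B.w * B.σ * B.w⁻¹) * b⁻¹ * B.w⁻¹ by group,
      B.w_inv, hwσ, mul_assoc B.w b, mul_assoc B.w, hbe]
  · exact ⟨b, hb, by rw [L.dd]; exact hbe⟩
  · refine ⟨B.w * a * B.w, B.w_conj_comm ha, ?_⟩
    rw [h3, show B.w * a * B.w * B.σ * (B.w * a * B.w)⁻¹ = B.w * a * (B.w * B.σ * B.w⁻¹) * a⁻¹ * B.w⁻¹ by group,
      B.w_inv, hwσ, mul_assoc B.w a, mul_assoc B.w, hae]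

/-- The quotient and the relation. -/
theorem wqwqy_pow [Finite G] : (B.w * B.q * B.w * B.q * B.y) ^ 5 ∈ zpowers B.x := by
  classical
  haveI : Fact (Nat.Prime 2) := ⟨Nat.prime_two⟩
  obtain ⟨φ, -, -, hφr, hφs⟩ := H43.JTwo.exists_d8 (u := B.q) (w := B.d) B.qq (B.d_four L) (B.qdq L)
  have hodd : Odd (orderOf B.x) := by rw [B.x_order]; decide
  have v0 : (0 : ZMod 4).val = 0 := rfl
  have v1 : (1 : ZMod 4).val = 1 := rfl
  have v2 : (2 : ZMod 4).val = 2 := rfl
  have v3 : (3 : ZMod 4).val = 3 := rfl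
  have hlist : ∀ D : List (DihedralGroup 4), D = [.r 0, .r 1, .r 2, .r 3, .sr 0, .sr 1, .sr 2, .sr 3] →
      D.map φ = [1, B.d, B.d * B.d, B.d ^ 3, B.q, B.q * B.d, B.q * (B.d * B.d), B.q * B.d ^ 3] := by
    rintro D rfl
    simp only [List.map_cons, List.map_nil, hφr, hφs, v0, v1, v2, v3, pow_zero, pow_one, pow_two, mul_one]
  have hl := hlist _ rfl
  have hall : ∀ g : DihedralGroup 4,
      g ∈ [DihedralGroup.r 0, .r 1, .r 2, .r 3, .sr 0, .sr 1, .sr 2, .sr 3] := by decide
  have hinj : Function.Injective φ := by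
    intro a b hab
    exact List.inj_on_of_nodup_map (hl ▸ L.distinct) (hall a) (hall b) hab
  have hr2 : φ (.r 2) = B.σ := by rw [hφr, v2, pow_two, L.dd]
  have hdx : B.d * B.x = B.x * B.d := by
    have h := B.w_conj_comm B.q_comm
    exact Commute.mul_left (show Commute (B.w * B.q * B.w) B.x from h) B.q_comm
  have hdσ : B.d * B.σ = B.σ * B.d := by rw [← L.dd, mul_assoc]
  have hcomm : ∀ g, φ g * B.x = B.x * φ g ∧ φ g * B.σ = B.σ * φ g := by
    intro g
    rcases g with i | i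
    · rw [hφr]
      exact ⟨Commute.pow_left hdx _, Commute.pow_left hdσ _⟩
    · rw [hφs]
      exact ⟨B.q_comm.mul_left (Commute.pow_left hdx _),
        Commute.mul_left B.q_σ (Commute.pow_left hdσ _)⟩
  have hzconj : ∀ g, φ g * φ g = 1 → φ g ≠ 1 → ∃ c : G, c * B.x = B.x * c ∧ c * B.σ * c⁻¹ = φ g := by
    intro g hg hg1
    have hgg : g * g = 1 := hinj (by rw [map_mul, map_one, hg])
    rcases d8_cases g hgg with r | r | r | r | r | r <;> subst r
    · exact absurd (map_one φ) hg1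
    · exact ⟨1, by simp, by rw [hr2]; group⟩
    · exact B.conj_cases L _ (by rw [hφs, v0]; simp)
    · exact B.conj_cases L _ (by rw [hφs, v1]; simp)
    · exact B.conj_cases L _ (by rw [hφs, v2, pow_two]; simp)
    · exact B.conj_cases L _ (by rw [hφs, v3]; simp)
  have hcover : ∀ c : G, c * B.x = B.x * c → c * B.σ = B.σ * c →
      ∃ a ∈ zpowers B.x, ∃ g, c = a * φ g := by
    intro c hc hcσ
    obtain ⟨a, ha, e, he, rfl⟩ := L.cover c hcσ hc
    rw [← hl, List.mem_map] at he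
    obtain ⟨g, -, rfl⟩ := he
    refine ⟨a, ?_, g, rfl⟩
    simp only [List.mem_cons, List.not_mem_nil, or_false] at ha
    rcases ha with rfl | rfl | rfl
    · exact one_mem _
    · exact mem_zpowers _
    · exact mul_mem (mem_zpowers _) (mem_zpowers _)
  have hdisj : ∀ g, φ g ∈ zpowers B.x → φ g = 1 := by
    intro g hg
    have h8 : φ g ^ 8 = 1 := by rw [← map_pow, H65.DihedralFusion.pow_eight g, map_one]
    have h3 : φ g ^ 3 = 1 := by
      have := orderOf_dvd_of_mem_zpowers hg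
      rw [B.x_order] at this
      exact orderOf_dvd_iff_pow_eq_one.mp this
    calc φ g = (φ g ^ 3) ^ 3 * (φ g ^ 8)⁻¹ := by group
      _ = 1 := by rw [h8, h3]; group
  set K := centralizer ({B.x} : Set G) with hK
  set P := φ.range with hP
  have hPK : P ≤ K := by rintro _ ⟨g, rfl⟩; exact mem_centralizer_singleton_iff.mpr (hcomm g).1
  have hPcard : Nat.card (P.subgroupOf K) = 2 ^ 3 := by
    rw [Nat.card_congr (subgroupOfEquivOfLe hPK).toEquiv,
      ← Nat.card_congr (MonoidHom.ofInjective hinj).toEquiv, Nat.card_eq_fintype_card, DihedralGroup.card]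
    norm_num
  have h16 : ¬ 2 ^ 4 ∣ Nat.card K := by
    intro hd
    obtain ⟨T, hT, hPT⟩ := Sylow.exists_subgroup_card_pow_succ (p := 2) (n := 3) hd hPcard
    have hidx : ((P.subgroupOf K).subgroupOf T).index = 2 := by
      have := ((P.subgroupOf K).subgroupOf T).card_mul_index
      rw [Nat.card_congr (subgroupOfEquivOfLe hPT).toEquiv, hPcard, hT] at this
      omega
    haveI := normal_of_index_eq_two hidx
    have hTP : T ≤ P.subgroupOf K := by
      intro r hr
      have hw : φ (.r 1) ∈ P := ⟨_, rfl⟩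
      have hwT : (⟨φ (.r 1), hPK hw⟩ : K) ∈ T := hPT hw
      obtain ⟨g, hg⟩ := (inferInstance : ((P.subgroupOf K).subgroupOf T).Normal).conj_mem
        ⟨⟨φ (.r 1), hPK hw⟩, hwT⟩ hw ⟨r, hr⟩
      have hg' : φ g = (r : G) * φ (.r 1) * (r : G)⁻¹ := hg
      have hfix : (r : G) * B.σ * (r : G)⁻¹ = B.σ := by
        have e : (r : G) * B.σ * (r : G)⁻¹ = φ (g * g) := by
          rw [map_mul, hg', ← hr2, show (DihedralGroup.r 2 : DihedralGroup 4) = .r 1 * .r 1 from rfl, map_mul]
          group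
        rcases d8_sq g with h | h
        · rw [h, map_one] at e
          exact absurd (conj_eq_one_iff.mp e) B.σ_ne
        · rwa [h, hr2] at e
      have hrx : (r : G) * B.x = B.x * (r : G) := mem_centralizer_singleton_iff.mp r.2
      obtain ⟨a, ha, g', hr'⟩ := hcover r hrx (mul_inv_eq_iff_eq_mul.mp hfix)
      have ha16 : a ^ 16 = 1 := by
        have h1 : (r : G) ^ 16 = 1 := by
          have := pow_card_eq_one' (G := T) (x := ⟨r, hr⟩)
          rw [hT] at this
          simpa using congrArg (fun v : T => ((v : K) : G)) this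
        have hc : Commute a (φ g') := (H43.JTwo.comm_of_mem_zpowers ha (hcomm g').1).symm
        rw [hr', hc.mul_pow, ← map_pow, show g' ^ 16 = (g' ^ 8) ^ 2 from pow_mul g' 8 2,
          H65.DihedralFusion.pow_eight, one_pow, map_one, mul_one] at h1
        exact h1
      have ha3 : a ^ 3 = 1 := by
        have := orderOf_dvd_of_mem_zpowers ha
        rw [B.x_order] at this
        exact orderOf_dvd_iff_pow_eq_one.mp this
      have ha1 : a = 1 := by
        calc a = a ^ 16 * ((a ^ 3) ^ 5)⁻¹ := by group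
          _ = 1 := by rw [ha16, ha3]; group
      exact ⟨g', by show φ g' = (r : G); rw [hr', ha1, one_mul]⟩
    have := Subgroup.card_le_of_le hTP
    rw [hT, hPcard] at this
    norm_num at this
  have hidx : ¬ 2 ∣ (P.subgroupOf K).index := by
    intro hd
    apply h16
    rw [← (P.subgroupOf K).card_mul_index, hPcard]
    obtain ⟨m, hm⟩ := hd
    exact ⟨m, by rw [hm]; ring⟩
  have hp : IsPGroup 2 (P.subgroupOf K) := IsPGroup.of_card hPcard
  have hone : ∀ u : G, u * B.x = B.x * u → u * u = 1 → u ≠ 1 →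
      ∃ c : G, c * B.x = B.x * c ∧ c * B.σ * c⁻¹ = u := by
    intro u hux huu hu1
    set u' : K := ⟨u, mem_centralizer_singleton_iff.mpr hux⟩
    have hu2 : IsPGroup 2 (zpowers u') := IsPGroup.of_card (n := 1) (by
      rw [Nat.card_zpowers, ← orderOf_coe, pow_one]
      exact orderOf_eq_prime (by rw [pow_two]; exact huu) hu1)
    obtain ⟨T, hT⟩ := hu2.exists_le_sylow
    obtain ⟨h, hh⟩ := MulAction.exists_smul_eq K T (hp.toSylow hidx)
    have hmem : h * u' * h⁻¹ ∈ P.subgroupOf K := by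
      have : h * u' * h⁻¹ ∈ ((h • T : Sylow 2 K) : Subgroup K) := by
        rw [Sylow.coe_subgroup_smul, mem_pointwise_smul_iff_inv_smul_mem, MulAut.smul_def]
        simp only [← map_inv, MulAut.conj_apply, inv_inv]
        convert hT (mem_zpowers _) using 1
        group
      rw [hh] at this
      exact this
    obtain ⟨g, hg⟩ := hmem
    have hg' : φ g = (h : G) * u * (h : G)⁻¹ := hg
    obtain ⟨c, hc, e⟩ := hzconj g
      (by rw [hg', show (h : G) * u * (h : G)⁻¹ * ((h : G) * u * (h : G)⁻¹) = h * (u * u) * (h : G)⁻¹ by group,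
        huu]; group)
      (by rw [hg']; exact fun e => hu1 (conj_eq_one_iff.mp e))
    refine ⟨(h : G)⁻¹ * c, Commute.mul_left (Commute.inv_left (mem_centralizer_singleton_iff.mp h.2)) hc, ?_⟩
    rw [show (h : G)⁻¹ * c * B.σ * ((h : G)⁻¹ * c)⁻¹ = (h : G)⁻¹ * (c * B.σ * c⁻¹) * h by group, e, hg']
    group
  -- the quotient
  have hσ1 : qm B.x B.σ_x ≠ 1 := fun e =>
    B.σ_ne (H43.JTwo.eq_one_of_invol hodd ((qm_eq_one _).mp e) B.σσ)
  have ht : orderOf (qm B.x B.σ_x) = 2 := orderOf_eq_prime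
    (by rw [pow_two, qm_mul]; exact (qm_eq_one _).mpr (by rw [B.σσ]; exact one_mem _)) hσ1
  obtain ⟨e⟩ : Nonempty (↥(centralizer ({qm B.x B.σ_x} : Set (CQ B.x))) ≃* DihedralGroup 4) := by
    obtain ⟨e⟩ := cent_equiv (H := φ.range) hodd B.σ_x B.σσ
      (fun c ⟨g, hg⟩ => hg ▸ hcomm g) (fun c ⟨g, hg⟩ hc => hg ▸ hdisj g (hg ▸ hc))
      (fun c hc hcσ => by
        obtain ⟨a, ha, g, rfl⟩ := hcover c hc hcσ
        exact ⟨a, ha, φ g, ⟨g, rfl⟩, rfl⟩)
    exact ⟨e.symm.trans (MonoidHom.ofInjective hinj).symm⟩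
  have h3 : ∀ v : CQ B.x, orderOf v = 2 → IsConj (qm B.x B.σ_x) v := by
    intro v hv
    have hv2 : v * v = 1 := by rw [← pow_two, ← hv, pow_orderOf_eq_one]
    have hv1 : v ≠ 1 := fun e => by rw [e, orderOf_one] at hv; omega
    obtain ⟨u, hu, huu, hu1, rfl⟩ := exists_invol_lift hodd hv2 hv1
    obtain ⟨c, hc, e⟩ := hone u hu huu hu1
    refine isConj_iff.mpr ⟨qm B.x hc, ?_⟩
    show qm B.x (c := c * B.σ * c⁻¹) (Commute.mul_left (Commute.mul_left hc B.σ_x) (Commute.inv_left hc)) = qm B.x hu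
    exact qm_congr _ _ e
  haveI := Fintype.ofFinite (CQ B.x)
  haveI := H65.DihedralFusion.isSimpleGroup e ht h3
  have hdy : Commute (B.d * B.y) B.x := Commute.mul_left hdx B.y_comm
  set a := qm B.x hdx
  set b := qm B.x B.y_comm
  have hb5 : b ^ 5 = 1 := by
    have : b ^ 5 = qm B.x (c := B.y ^ 5) (B.y_comm.pow_left 5) := rfl
    rw [this]; exact (qm_eq_one _).mpr (by rw [B.y_five]; exact one_mem _)
  have hb1 : b ≠ 1 := by
    intro hb
    have h := orderOf_dvd_of_mem_zpowers ((qm_eq_one _).mp hb)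
    rw [B.x_order] at h
    have h5 : orderOf B.y ∣ 5 := orderOf_dvd_of_pow_eq_one B.y_five
    have := Nat.eq_one_of_dvd_coprimes (by decide : Nat.Coprime 3 5) h h5
    exact B.y_ne (orderOf_eq_one_iff.mp this)
  haveI : Fact (Nat.Prime 5) := ⟨by norm_num⟩
  have h360 : Nat.card (CQ B.x) = 360 := by
    refine (H65.DihedralEight.card_eq _ e ht h3).resolve_left fun h168 => ?_
    have h5 : orderOf b = 5 := orderOf_eq_prime hb5 hb1
    have := orderOf_dvd_natCard b
    rw [h5, h168] at this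
    norm_num at this
  obtain ⟨ψ⟩ := Cfsg.Agent.S0497.result h360
  have haa : a * a = qm B.x B.σ_x :=
    (qm_mul hdx hdx).trans (qm_congr _ _ L.dd)
  have ha4 : a * a * (a * a) = 1 := by
    rw [haa, ← pow_two, ← ht, pow_orderOf_eq_one]
  have hab : a * a * b * (a * a * b) = 1 := by
    have hsy : B.σ * B.y * (B.σ * B.y) = 1 := by
      rw [← mul_assoc, ← B.σ_inv]
      nth_rw 1 [B.σ_inv]
      rw [B.σ_y, inv_mul_cancel]
    rw [haa]
    have hc : Commute (B.σ * B.y) B.x := Commute.mul_left B.σ_x B.y_comm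
    exact (qm_eq_one (c := B.σ * B.y * (B.σ * B.y)) (hc.mul_left hc)).mpr (by rw [hsy]; exact one_mem _)
  have key := alt_six_rel (ψ a) (ψ b) (by rw [← map_mul, ← map_mul, ha4, map_one])
    (by rw [← map_mul, Ne, map_eq_one_iff ψ ψ.injective, haa]; exact hσ1)
    (by rw [← map_pow, hb5, map_one]) (by rwa [Ne, map_eq_one_iff ψ ψ.injective])
    (by simp only [← map_mul]; rw [hab, map_one])
  rw [← map_mul, ← map_pow, map_eq_one_iff ψ ψ.injective] at key
  have : (a * b) ^ 5 = qm B.x (c := (B.d * B.y) ^ 5) (hdy.pow_left 5) := rfl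
  rw [this] at key
  exact (qm_eq_one _).mp key

end Base

end Cfsg.Agent.H52.JThree.Uniq
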