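import Cfsg.Agent.H52.JThree.L16.Main
import Cfsg.Agent.Linear.Order

/-!
The subgroup generated by a line over the field of sixteen elements and an involution inducing the
automorphism of order two over the field of four elements.
-/

set_option autoImplicit false
set_option maxRecDepth 10000
set_option linter.style.haveILetI false
set_option linter.unusedSectionVars false

namespace Cfsg.Agent.H52.JThree.Uniq

open Sixteen Subgroup OnePoint Matrix

/-- A line over the field of sixteen elements with an involution. -/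
structure Ext (Q : Type*) [Group Q] where
  L : Line Q K16
  σ : Q
  hs : L.s = 14
  hα : L.α = K16.root
  σσ : σ * σ = 1
  σt : σ * L.t * σ⁻¹ = L.t ^ 4
  σu : σ * L.u 1 = L.u 1 * σ
  σw : σ * L.w = L.w * σ

namespace Ext

variable {Q : Type*} [Group Q] (E : Ext Q)

theorem inv_s : ∀ a : K16, a ≠ 0 → a ^ E.L.s = a⁻¹ := fun a ha => by rw [E.hs]; exact fourteen_inv ha

/-- The subgroup of the five generators. -/
def H : Subgroup Q := closure {E.L.t ^ 3, E.L.t ^ 5, E.σ, E.L.u 1, E.L.w}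

theorem t_mem_H : E.L.t ∈ E.H := by
  have h3 : E.L.t ^ 3 ∈ E.H := subset_closure (by simp)
  have h5 : E.L.t ^ 5 ∈ E.H := subset_closure (by simp)
  have e : E.L.t = (E.L.t ^ 5)⁻¹ * (E.L.t ^ 3) ^ 2 := by group
  rw [e]
  exact mul_mem (inv_mem h5) (pow_mem h3 2)

theorem grp_le_H : E.L.grp ≤ E.H := by
  refine (closure_le _).mpr ?_
  rintro g (⟨a, rfl⟩ | rfl)
  · rcases eq_or_ne a 0 with rfl | ha
    · rw [E.L.u_zero]; exact one_mem _
    · obtain ⟨j, rfl⟩ := E.L.α_cover a ha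
      rw [show E.L.α ^ j = E.L.α ^ j * 1 by rw [mul_one], ← E.L.tu_pow]
      exact mul_mem (mul_mem (pow_mem E.t_mem_H j) (subset_closure (by simp))) (inv_mem (pow_mem E.t_mem_H j))
  · exact subset_closure (by simp)

theorem σ_inv : E.σ⁻¹ = E.σ := inv_eq_of_mul_eq_one_right E.σσ

theorem σ_conj_u (a : K16) : ∃ b, E.σ * E.L.u a * E.σ⁻¹ = E.L.u b := by
  rcases eq_or_ne a 0 with rfl | ha
  · exact ⟨0, by rw [E.L.u_zero]; group⟩
  · obtain ⟨j, rfl⟩ := E.L.α_cover a ha
    refine ⟨E.L.α ^ (4 * j) * 1, ?_⟩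
    rw [show E.L.α ^ j = E.L.α ^ j * 1 by rw [mul_one], ← E.L.tu_pow, ← E.L.tu_pow,
      show E.σ * (E.L.t ^ j * E.L.u 1 * (E.L.t ^ j)⁻¹) * E.σ⁻¹ =
        (E.σ * E.L.t ^ j * E.σ⁻¹) * (E.σ * E.L.u 1 * E.σ⁻¹) * (E.σ * E.L.t ^ j * E.σ⁻¹)⁻¹ by group,
      E.σu, mul_inv_cancel_right, ← conj_pow, E.σt, ← pow_mul]

theorem σ_conj_grp {g : Q} (hg : g ∈ E.L.grp) : E.σ * g * E.σ⁻¹ ∈ E.L.grp := by
  induction hg using closure_induction with
  | mem g hg =>
    rcases hg with ⟨a, rfl⟩ | rfl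
    · obtain ⟨b, hb⟩ := E.σ_conj_u a
      rw [hb]; exact E.L.u_grp b
    · rw [E.σw, mul_inv_cancel_right]; exact E.L.w_grp
  | one => simp
  | mul g g' _ _ h h' =>
    rw [show E.σ * (g * g') * E.σ⁻¹ = E.σ * g * E.σ⁻¹ * (E.σ * g' * E.σ⁻¹) by group]
    exact mul_mem h h'
  | inv g _ h =>
    rw [show E.σ * g⁻¹ * E.σ⁻¹ = (E.σ * g * E.σ⁻¹)⁻¹ by group]
    exact inv_mem h

theorem t_mem_grp : E.L.t ∈ E.L.grp := by
  have hA : (!![K16.pw 8, 0; 0, (K16.pw 8)⁻¹] : Matrix (Fin 2) (Fin 2) K16).det = 1 := by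
    rw [det_fin_two_of, mul_zero, sub_zero, mul_inv_cancel₀ (by decide +kernel)]
  set D : SpecialLinearGroup (Fin 2) K16 := ⟨!![K16.pw 8, 0; 0, (K16.pw 8)⁻¹], hA⟩ with hD
  have hD' : ∀ i j, ((SpecialLinearGroup.toGL D : GL (Fin 2) K16) : Matrix (Fin 2) (Fin 2) K16) i j =
      (!![K16.pw 8, 0; 0, (K16.pw 8)⁻¹] : Matrix (Fin 2) (Fin 2) K16) i j := fun _ _ => rfl
  obtain ⟨g, hg, hgA⟩ := E.L.exists_acts E.inv_s D
  suffices h : E.L.t = g by rw [h]; exact hg
  refine E.L.acts_unique (fun x => ?_) hgA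
  cases x with
  | infty =>
    rw [smul_infty_eq_ite, if_pos (by rw [hD']; simp)]
    show E.L.t • (QuotientGroup.mk 1 : Q ⧸ E.L.B) = QuotientGroup.mk 1
    rw [E.L.mk_smul]
    refine QuotientGroup.eq.mpr ?_
    simpa using inv_mem (E.L.t_mem 1)
  | coe a =>
    have h := E.L.t_pt 1 a
    rw [pow_one, pow_one] at h
    have h8 : K16.root * a = (K16.pw 8 * a + 0) / (0 * a + (K16.pw 8)⁻¹) := by
      rw [add_zero, zero_mul, zero_add, div_inv_eq_mul, mul_comm _ (K16.pw 8), ← mul_assoc,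
        show K16.pw 8 * K16.pw 8 = K16.root by decide +kernel]
    rw [h, E.hα, h8, smul_some_eq_ite, if_neg (by
      rw [hD', hD']; simp; decide +kernel)]
    simp only [hD']
    simp

/-- Every element is in the group of the line or becomes so after multiplication by `σ`. -/
theorem H_cases {g : Q} (hg : g ∈ E.H) : g ∈ E.L.grp ∨ g * E.σ ∈ E.L.grp := by
  induction hg using closure_induction with
  | mem g hg =>
    simp only [Set.mem_insert_iff, Set.mem_singleton_iff] at hg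
    rcases hg with rfl | rfl | rfl | rfl | rfl
    · exact Or.inl (pow_mem E.t_mem_grp 3)
    · exact Or.inl (pow_mem E.t_mem_grp 5)
    · exact Or.inr (by rw [E.σσ]; exact one_mem _)
    · exact Or.inl (E.L.u_grp 1)
    · exact Or.inl E.L.w_grp
  | one => exact Or.inl (one_mem _)
  | mul g g' _ _ h h' =>
    rcases h with h | h <;> rcases h' with h' | h'
    · exact Or.inl (mul_mem h h')
    · exact Or.inr (by rw [mul_assoc]; exact mul_mem h h')
    · right
      rw [show g * g' * E.σ = g * E.σ * (E.σ⁻¹ * g' * E.σ) by group]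
      have := E.σ_conj_grp h'
      exact mul_mem h (by rwa [E.σ_inv] at this ⊢)
    · left
      rw [show g * g' = g * E.σ * (E.σ⁻¹ * (g' * E.σ) * E.σ⁻¹) by group]
      have := E.σ_conj_grp h'
      exact mul_mem h (by rwa [E.σ_inv] at this ⊢)
  | inv g _ h =>
    rcases h with h | h
    · exact Or.inl (inv_mem h)
    · right
      rw [show g⁻¹ * E.σ = E.σ * (g * E.σ)⁻¹ * E.σ by group]
      have := E.σ_conj_grp (inv_mem h)
      rwa [E.σ_inv] at this

theorem card_grp : Nat.card E.L.grp = 4080 := by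
  obtain ⟨e⟩ := E.L.iso E.inv_s
  rw [Nat.card_congr e.toEquiv, Cfsg.Agent.Linear.card_SL_two, K16.card]
  norm_num

theorem card_H_ge [Finite Q] : 4080 ≤ Nat.card E.H := E.card_grp ▸ Subgroup.card_le_of_le E.grp_le_H

theorem card_H_le [Finite Q] : Nat.card E.H ≤ 8160 := by
  classical
  show Nat.card ↥(E.H : Set Q) ≤ 8160
  rw [Nat.card_coe_set_eq]
  have hsub : (E.H : Set Q) ⊆ (E.L.grp : Set Q) ∪ (fun g => g * E.σ⁻¹) '' (E.L.grp : Set Q) := by
    intro g hg
    rcases E.H_cases hg with h | h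
    · exact Or.inl h
    · exact Or.inr ⟨g * E.σ, h, mul_inv_cancel_right g E.σ⟩
  refine (Set.ncard_le_ncard hsub (Set.toFinite _)).trans ((Set.ncard_union_le _ _).trans ?_)
  have h4 : (E.L.grp : Set Q).ncard = 4080 := by rw [← Nat.card_coe_set_eq]; exact E.card_grp
  have := Set.ncard_image_le (f := fun g => g * E.σ⁻¹) (Set.toFinite (E.L.grp : Set Q))
  omega

theorem σ_notMem (h1 : E.σ ≠ 1) : E.σ ∉ E.L.grp := by
  intro hmem
  classical
  obtain ⟨A, hA⟩ := E.L.acts_exists_mat E.inv_s hmem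
  have huniq : ∀ {M N : SpecialLinearGroup (Fin 2) K16} {g : Q},
      E.L.Acts M g → E.L.Acts N g → M = N := by
    intro M N g hM hN
    refine inv_mul_eq_one.mp (Line.mat_eq_one E.L.two (A := M⁻¹ * N) fun x => ?_)
    have e := E.L.pt_inj ((hN x).symm.trans (hM x))
    rw [map_mul, mul_smul, e, smul_smul, ← map_mul, inv_mul_cancel, map_one, one_smul]
  have e1 := huniq (E.L.acts_mul hA (E.L.acts_upper 1)) (E.σu ▸ E.L.acts_mul (E.L.acts_upper 1) hA)
  have e2 := huniq (E.L.acts_mul hA (E.L.acts_w E.inv_s)) (E.σw ▸ E.L.acts_mul (E.L.acts_w E.inv_s) hA)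
  have hd := A.det_coe
  rw [det_fin_two] at hd
  have f1 := congrArg (fun M : SpecialLinearGroup (Fin 2) K16 => (M : Matrix (Fin 2) (Fin 2) K16)) e1
  have f2 := congrArg (fun M : SpecialLinearGroup (Fin 2) K16 => (M : Matrix (Fin 2) (Fin 2) K16)) e2
  have a00 := congrFun (congrFun f1 0) 0
  have a01 := congrFun (congrFun f1 0) 1
  have b00 := congrFun (congrFun f2 0) 0
  simp [Matrix.mul_apply, Fin.sum_univ_two, SpecialLinearGroup.transvection_coe] at a00 a01
  simp [Matrix.mul_apply, Fin.sum_univ_two, Line.wMat_coe] at b00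
  -- the matrix is scalar
  have hc : (A : Matrix (Fin 2) (Fin 2) K16) 1 0 = 0 := a00
  have hb : (A : Matrix (Fin 2) (Fin 2) K16) 0 1 = 0 := b00.trans hc
  have hd11 : (A : Matrix (Fin 2) (Fin 2) K16) 1 1 = (A : Matrix (Fin 2) (Fin 2) K16) 0 0 := by
    linear_combination -a01
  rw [hb, hc, hd11, mul_zero, sub_zero] at hd
  have hsq : ∀ a : K16, a * a = 1 → a = 1 := by decide +kernel
  have ha := hsq _ hd
  refine h1 (E.L.acts_unique hA ?_)
  have hA1 : A = 1 := by
    ext i j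
    fin_cases i <;> fin_cases j <;> simp [hb, hc, hd11, ha]
  rw [hA1]
  exact E.L.acts_one

end Ext

end Cfsg.Agent.H52.JThree.Uniq
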