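import Cfsg.Agent.H52.JThree.Uniq.Rels
import Cfsg.Agent.H52.JThree.Uniq.SixteenTwo
import Cfsg.Agent.H52.JThree.Tc.Main.ActCert
import Cfsg.Agent.H52.JThree.Tc.KindOne.Cert
import Cfsg.Agent.H52.JThree.Tc.ShiftOne.Cert
import Cfsg.Agent.H52.JThree.Tc.ShiftTwo.Cert

/-!
In a simple group of J₃ type the generators satisfy the main relators and generate.
-/

set_option autoImplicit false
set_option maxRecDepth 10000
set_option linter.style.haveILetI false
set_option linter.unusedSectionVars false

namespace Cfsg.Agent.H52.JThree.Uniq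

open Sixteen Subgroup

variable {G : Type*} [Group G] {F : Frame G} (B : Base F)

theorem main_list : Tc.Main.relList = commonRels ++ [kindRel ++ [4], centRel] := rfl
theorem kindOne_list : Tc.KindOne.relList = commonRels ++ [kindRel, centRel] := rfl
theorem shiftOne_list : Tc.ShiftOne.relList = commonRels ++ [centRel ++ [3]] := rfl
theorem shiftTwo_list : Tc.ShiftTwo.relList = commonRels ++ [centRel ++ [2]] := rfl

namespace Base

theorem exists_ext : ∃ E : Ext G, E.L.t = B.t ∧ E.L.w = B.w ∧ E.σ = B.σ ∧ E.L.u 1 = B.u := by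
  obtain ⟨-, f14, -, -⟩ := eleven_false
  obtain ⟨L, hLt, hLw, hs, hα, hu⟩ :=
    exists_line F (p := 1) (by norm_num) (by norm_num) B.t_real B.t15 B.ww f14 B.wt B.rel
  have hu1 : L.u 1 = B.u := by
    rw [hu, show ((1 : K16).val : ℕ) = 1 from rfl, (orbM_facts 1 (by norm_num) (by norm_num)).1]; rfl
  exact ⟨{ L := L, σ := B.σ, hs := hs, hα := hα, σσ := B.σσ, σt := by rw [hLt]; exact B.σt,
           σu := by rw [hu1]; exact B.σ_u, σw := by rw [hLw]; exact B.σw }, hLt, hLw, rfl, hu1⟩

/-- The subgroup of the five generators. -/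
def sub : Subgroup G := closure {B.t ^ 3, B.t ^ 5, B.σ, B.u, B.w}

theorem gen_mem_sub : ∀ g ∈ [0, 2, 4, 5, 7], B.gen g ∈ B.sub := by
  intro g hg
  simp only [List.mem_cons, List.not_mem_nil, or_false] at hg
  rcases hg with rfl | rfl | rfl | rfl | rfl <;> exact subset_closure (by simp [gen, x, y])

theorem sub_card_ge [Finite G] : 4080 ≤ Nat.card B.sub := by
  obtain ⟨E, ht, hw, hs, hu⟩ := B.exists_ext
  have h : E.H = B.sub := by rw [Ext.H, sub, ht, hw, hs, hu]
  exact h ▸ E.card_H_ge

theorem q_notMem_sub (L : Local B) : B.q ∉ B.sub := by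
  intro hq
  obtain ⟨E, ht, hw, hs, hu⟩ := B.exists_ext
  have h : E.H = B.sub := by rw [Ext.H, sub, ht, hw, hs, hu]
  have hn := E.σ_notMem (by rw [hs]; exact B.σ_ne)
  rw [hs] at hn
  rcases E.H_cases (h ▸ hq) with hg | hg
  · exact hn (L.qw ▸ pow_mem (mul_mem hg (hw ▸ E.L.w_grp)) 4)
  · rw [hs] at hg
    have hc : Commute B.σ (B.q * B.w) := Commute.mul_right B.q_σ.symm B.σw
    have e : (B.q * B.σ * B.w) ^ 4 = B.σ := by
      rw [mul_assoc, show B.σ * B.w = B.w * B.σ from B.σw, ← mul_assoc, hc.symm.mul_pow, L.qw,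
        show B.σ ^ 4 = 1 by rw [pow_succ, pow_succ, pow_two, B.σσ, one_mul, B.σσ], mul_one]
    exact hn (e ▸ pow_mem (mul_mem hg (hw ▸ E.L.w_grp)) 4)

/-- The group generated. -/
def span : Subgroup G := closure (B.gen '' {g | g ∈ Tc.closeLet})

theorem gen_mem_span : ∀ g, B.gen g ∈ B.span := by
  have h : ∀ g ∈ Tc.closeLet, B.gen g ∈ B.span := fun g hg => subset_closure ⟨g, hg, rfl⟩
  intro g
  match g with
  | 0 => exact h 0 (by decide)
  | 1 => exact inv_mem (h 0 (by decide))
  | 2 => exact h 2 (by decide)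
  | 3 => exact inv_mem (h 2 (by decide))
  | 4 => exact h 4 (by decide)
  | 5 => exact h 5 (by decide)
  | 6 => exact h 6 (by decide)
  | 7 => exact h 7 (by decide)
  | n + 8 => exact one_mem _

theorem sub_le_span : B.sub ≤ B.span := by
  refine (closure_le _).mpr ?_
  intro g hg
  simp only [Set.mem_insert_iff, Set.mem_singleton_iff] at hg
  rcases hg with rfl | rfl | rfl | rfl | rfl
  exacts [B.gen_mem_span 0, B.gen_mem_span 2, B.gen_mem_span 4, B.gen_mem_span 5, B.gen_mem_span 7]

/-- The model in the generated group. -/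
def model (Lg : Tc.Log) (hs : ∀ g ∈ Lg.subs, g ∈ [0, 2, 4, 5, 7])
    (hr : ∀ r ∈ Lg.rels, (r.map B.gen).prod = 1) : Tc.Model Lg B.span where
  gen g := ⟨B.gen g, B.gen_mem_span g⟩
  H := B.sub.subgroupOf B.span
  gen_iv g := Subtype.ext (B.gen_iv g)
  gen_eight := Subtype.ext rfl
  rel r h := Subtype.ext (by
    rw [Subgroup.coe_one, ← Subgroup.coe_subtype, map_list_prod, List.map_map]
    exact hr r h)
  sub_mem g hg := B.gen_mem_sub g (hs g hg)

theorem model_gen (Lg : Tc.Log) (hs : ∀ g ∈ Lg.subs, g ∈ [0, 2, 4, 5, 7])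
    (hr : ∀ r ∈ Lg.rels, (r.map B.gen).prod = 1) :
    closure {v | ∃ g ∈ Tc.closeLet, (B.model Lg hs hr).gen g = v} = ⊤ := by
  refine eq_top_iff.mpr ?_
  have h := closure_closure_coe_preimage (k := B.gen '' {g | g ∈ Tc.closeLet})
  refine le_of_eq_of_le h.symm (closure_mono ?_)
  rintro v ⟨g, hg, he⟩
  exact ⟨g, hg, Subtype.ext he⟩

theorem collapse [Finite G] (L : Local B) (Lg : Tc.Log) (C : Tc.Checked Lg)
    (hs : ∀ g ∈ Lg.subs, g ∈ [0, 2, 4, 5, 7]) (h1 : (Tc.Model.liveList Lg).length = 1)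
    (hr : ∀ r ∈ Lg.rels, (r.map B.gen).prod = 1) : False := by
  have h := (B.model Lg hs hr).card_le C (B.model_gen Lg hs hr)
  rw [h1] at h
  have hidx : (B.sub.subgroupOf B.span).index = 1 := le_antisymm h (Nat.one_le_iff_ne_zero.mpr
    (Subgroup.index_ne_zero_of_finite))
  have := (Subgroup.index_eq_one.mp hidx).symm.le (Subgroup.mem_top ⟨B.q, B.gen_mem_span 6⟩)
  exact B.q_notMem_sub L this

theorem main_ok [Finite G] (L : Local B) : ∀ r ∈ Tc.Main.log.rels, (r.map B.gen).prod = 1 := by
  have hc := B.common_ok L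
  have happ : ∀ (l : List ℕ) (k : ℕ), ((l ++ [k]).map B.gen).prod = (l.map B.gen).prod * B.gen k := by
    intro l k; simp
  have hx : B.x⁻¹ * B.x = 1 := inv_mul_cancel _
  rcases B.cent_val L with hv | hv | hv
  · rcases B.kind_val L with hk | hk
    · show ∀ r ∈ Tc.Main.relList, _
      rw [main_list]
      simp only [List.forall_mem_append, List.forall_mem_cons, List.not_mem_nil, IsEmpty.forall_iff, implies_true,
        and_true]
      exact ⟨hc, by rw [happ, hk]; exact B.σσ, hv⟩
    · refine (B.collapse L _ Tc.KindOne.checked (by decide) Tc.KindOne.live_count ?_).elim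
      show ∀ r ∈ Tc.KindOne.relList, _
      rw [kindOne_list]
      simp only [List.forall_mem_append, List.forall_mem_cons, List.not_mem_nil, IsEmpty.forall_iff, implies_true,
        and_true]
      exact ⟨hc, hk, hv⟩
  · refine (B.collapse L _ Tc.ShiftOne.checked (by decide) Tc.ShiftOne.live_count ?_).elim
    show ∀ r ∈ Tc.ShiftOne.relList, _
    rw [shiftOne_list]
    simp only [List.forall_mem_append, List.forall_mem_cons, List.not_mem_nil, IsEmpty.forall_iff, implies_true,
      and_true]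
    exact ⟨hc, by rw [happ, hv]; exact mul_inv_cancel _⟩
  · refine (B.collapse L _ Tc.ShiftTwo.checked (by decide) Tc.ShiftTwo.live_count ?_).elim
    show ∀ r ∈ Tc.ShiftTwo.relList, _
    rw [shiftTwo_list]
    simp only [List.forall_mem_append, List.forall_mem_cons, List.not_mem_nil, IsEmpty.forall_iff, implies_true,
      and_true]
    exact ⟨hc, by rw [happ, hv]; exact inv_mul_cancel _⟩

theorem span_top [Finite G] [IsSimpleGroup G] (L : Local B) (hG : Nat.card G = 50232960) : B.span = ⊤ := by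
  have hq : (B.model Tc.Main.log (by decide) (B.main_ok L)).gen 6 ∉
      (B.model Tc.Main.log (by decide) (B.main_ok L)).H := B.q_notMem_sub L
  have h := (B.model Tc.Main.log (by decide) (B.main_ok L)).le_card Tc.Main.checkedAct Tc.Main.checked hq
  rw [Tc.Main.live_count] at h
  have hmul := (B.sub.subgroupOf B.span).card_mul_index
  rw [Nat.card_congr (subgroupOfEquivOfLe B.sub_le_span).toEquiv] at hmul
  have h' : 6156 ≤ (B.sub.subgroupOf B.span).index := by
    rw [index_eq_card]
    exact Nat.le_of_mul_le_mul_left (show 3 * 6156 ≤ _ from h) (by norm_num)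
  have hbig : 4080 * 6156 ≤ Nat.card B.span := hmul ▸ Nat.mul_le_mul B.sub_card_ge h'
  have hi := B.span.card_mul_index
  rw [hG] at hi
  have hi2 : B.span.index ≤ 2 := by
    by_contra hgt
    have := Nat.mul_le_mul hbig (show 3 ≤ B.span.index by omega)
    omega
  rcases Nat.lt_or_ge B.span.index 2 with hlt | hge
  · exact index_eq_one.mp (by
      have := Subgroup.index_ne_zero_of_finite (H := B.span)
      omega)
  · have h2 : B.span.index = 2 := by omega
    rcases (normal_of_index_eq_two h2).eq_bot_or_eq_top with hb | hb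
    · rw [hb, card_bot] at hbig; omega
    · exact hb

end Base

end Cfsg.Agent.H52.JThree.Uniq
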