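import Cfsg.Agent.H52.JThree.Uniq.Gens

/-!
Two simple groups of J₃ type are isomorphic.
-/

set_option autoImplicit false
set_option maxRecDepth 10000
set_option linter.style.haveILetI false
set_option linter.unusedSectionVars false

namespace Cfsg.Agent.H52.JThree.Uniq

open Sixteen Subgroup

/-- The product of two lines with the same parameters. -/
def prodLine {G J K : Type*} [Group G] [Group J] [Field K] (L : Line G K) (M : Line J K)
    (hα : M.α = L.α) (hn : M.n = L.n) (hs : M.s = L.s) : Line (G × J) K where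
  u a := (L.u a, M.u a)
  t := (L.t, M.t)
  w := (L.w, M.w)
  α := L.α
  n := L.n
  s := L.s
  two := L.two
  u_add a b := Prod.ext (L.u_add a b) (M.u_add a b)
  u_inj a b h := L.u_inj (congrArg Prod.fst h)
  t_pow := Prod.ext L.t_pow (hn ▸ M.t_pow)
  α_cover := L.α_cover
  α_ne := L.α_ne
  n_pos := L.n_pos
  α_ord := L.α_ord
  tu a := Prod.ext (L.tu a) (hα ▸ M.tu a)
  ww := Prod.ext L.ww M.ww
  wt := Prod.ext L.wt (hs ▸ M.wt)
  rel := Prod.ext L.rel M.rel

variable {G J : Type*} [Group G] [Group J] {FG : Frame G} {FJ : Frame J} (BG : Base FG) (BJ : Base FJ)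

/-- The pairs of generators. -/
def pairGen (g : ℕ) : G × J := (BG.gen g, BJ.gen g)

/-- The group generated by the pairs. -/
def pairSpan : Subgroup (G × J) := closure (pairGen BG BJ '' {g | g ∈ Tc.closeLet})

theorem pairGen_mem : ∀ g, pairGen BG BJ g ∈ pairSpan BG BJ := by
  have h : ∀ g ∈ Tc.closeLet, pairGen BG BJ g ∈ pairSpan BG BJ := fun g hg => subset_closure ⟨g, hg, rfl⟩
  have hiv : ∀ g, pairGen BG BJ (Tc.iv g) = (pairGen BG BJ g)⁻¹ := fun g => Prod.ext (BG.gen_iv g) (BJ.gen_iv g)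
  intro g
  match g with
  | 0 => exact h 0 (by decide)
  | 1 => exact (hiv 0) ▸ inv_mem (h 0 (by decide))
  | 2 => exact h 2 (by decide)
  | 3 => exact (hiv 2) ▸ inv_mem (h 2 (by decide))
  | 4 => exact h 4 (by decide)
  | 5 => exact h 5 (by decide)
  | 6 => exact h 6 (by decide)
  | 7 => exact h 7 (by decide)
  | n + 8 => exact one_mem _

theorem card_pairSpan [Finite G] [Finite J] [IsSimpleGroup G] [IsSimpleGroup J] (LG : Base.Local BG)
    (LJ : Base.Local BJ) : Nat.card (pairSpan BG BJ) ≤ 18468 * 8160 := by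
  obtain ⟨EG, gt, gw, gs, gu⟩ := BG.exists_ext
  obtain ⟨EJ, jt, jw, js, ju⟩ := BJ.exists_ext
  have hnG : EG.L.n = 15 ∧ EJ.L.n = 15 := by
    constructor
    · refine Nat.dvd_antisymm (EG.L.α_ord 15 (by rw [EG.hα, K16.pow_eq_pw]; exact K16.root_facts.1)) ?_
      have := EG.L.α_pow_n
      rw [EG.hα] at this
      by_contra hne
      refine K16.root_facts.2.1 (EG.L.n % 15) (Nat.mod_lt _ (by norm_num))
        (Nat.pos_of_ne_zero fun h => hne (Nat.dvd_of_mod_eq_zero h)) ?_
      rw [← K16.pow_eq_pw, ← this]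
      conv_rhs => rw [← Nat.div_add_mod EG.L.n 15, pow_add, pow_mul, K16.pow_eq_pw 15, K16.root_facts.1,
        one_pow, one_mul]
    · refine Nat.dvd_antisymm (EJ.L.α_ord 15 (by rw [EJ.hα, K16.pow_eq_pw]; exact K16.root_facts.1)) ?_
      have := EJ.L.α_pow_n
      rw [EJ.hα] at this
      by_contra hne
      refine K16.root_facts.2.1 (EJ.L.n % 15) (Nat.mod_lt _ (by norm_num))
        (Nat.pos_of_ne_zero fun h => hne (Nat.dvd_of_mod_eq_zero h)) ?_
      rw [← K16.pow_eq_pw, ← this]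
      conv_rhs => rw [← Nat.div_add_mod EJ.L.n 15, pow_add, pow_mul, K16.pow_eq_pw 15, K16.root_facts.1,
        one_pow, one_mul]
  let E : Ext (G × J) :=
    { L := prodLine EG.L EJ.L (EJ.hα.trans EG.hα.symm) (hnG.2.trans hnG.1.symm) (EJ.hs.trans EG.hs.symm)
      σ := (EG.σ, EJ.σ)
      hs := EG.hs
      hα := EG.hα
      σσ := Prod.ext EG.σσ EJ.σσ
      σt := Prod.ext EG.σt EJ.σt
      σu := Prod.ext EG.σu EJ.σu
      σw := Prod.ext EG.σw EJ.σw }
  have hE : E.H = closure {pairGen BG BJ 0, pairGen BG BJ 2, pairGen BG BJ 4, pairGen BG BJ 5, pairGen BG BJ 7} := by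
    have ht : E.L.t = (BG.t, BJ.t) := Prod.ext gt jt
    have hw : E.L.w = (BG.w, BJ.w) := Prod.ext gw jw
    have hs : E.σ = (BG.σ, BJ.σ) := Prod.ext gs js
    have hu : E.L.u 1 = (BG.u, BJ.u) := Prod.ext gu ju
    rw [Ext.H, ht, hw, hs, hu]
    rfl
  have hle : E.H ≤ pairSpan BG BJ := by
    rw [hE]
    refine (closure_le _).mpr ?_
    intro g hg
    simp only [Set.mem_insert_iff, Set.mem_singleton_iff] at hg
    rcases hg with rfl | rfl | rfl | rfl | rfl <;> exact pairGen_mem BG BJ _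
  have hrel : ∀ r ∈ Tc.Main.log.rels, (r.map (pairGen BG BJ)).prod = 1 := by
    intro r hr
    refine Prod.ext ?_ ?_
    · rw [← MonoidHom.coe_fst, map_list_prod, List.map_map, map_one]
      exact BG.main_ok LG r hr
    · rw [← MonoidHom.coe_snd, map_list_prod, List.map_map, map_one]
      exact BJ.main_ok LJ r hr
  let M : Tc.Model Tc.Main.log (pairSpan BG BJ) :=
    { gen := fun g => ⟨pairGen BG BJ g, pairGen_mem BG BJ g⟩
      H := E.H.subgroupOf (pairSpan BG BJ)
      gen_iv := fun g => Subtype.ext (Prod.ext (BG.gen_iv g) (BJ.gen_iv g))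
      gen_eight := Subtype.ext rfl
      rel := fun r h => Subtype.ext (by
        rw [Subgroup.coe_one, ← Subgroup.coe_subtype, map_list_prod, List.map_map]
        exact hrel r h)
      sub_mem := fun g hg => by
        show pairGen BG BJ g ∈ E.H
        rw [hE]
        refine subset_closure ?_
        have : g = 0 ∨ g = 2 ∨ g = 4 ∨ g = 5 ∨ g = 7 :=
          (by decide : ∀ g ∈ Tc.Main.log.subs, g = 0 ∨ g = 2 ∨ g = 4 ∨ g = 5 ∨ g = 7) g hg
        rcases this with rfl | rfl | rfl | rfl | rfl <;> simp }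
  have hgen : closure {v | ∃ g ∈ Tc.closeLet, M.gen g = v} = ⊤ := by
    refine eq_top_iff.mpr ?_
    refine le_of_eq_of_le (closure_closure_coe_preimage (k := pairGen BG BJ '' {g | g ∈ Tc.closeLet})).symm
      (closure_mono ?_)
    rintro v ⟨g, hg, he⟩
    exact ⟨g, hg, Subtype.ext he⟩
  have h := M.card_le Tc.Main.checked hgen
  rw [Tc.Main.live_count] at h
  have hmul := (E.H.subgroupOf (pairSpan BG BJ)).card_mul_index
  rw [Nat.card_congr (subgroupOfEquivOfLe hle).toEquiv, index_eq_card] at hmul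
  rw [← hmul, mul_comm 18468]
  exact Nat.mul_le_mul E.card_H_le h

theorem eq_bot_of_small [Finite J] [IsSimpleGroup J] (hJ : 4 ≤ Nat.card J) (N : Subgroup J) (hN : N.Normal)
    (h : Nat.card N ≤ 3) : N = ⊥ :=
  hN.eq_bot_or_eq_top.resolve_right fun e => by rw [e, card_top] at h; omega

/-- The isomorphism. -/
theorem nonempty_iso [Finite G] [Finite J] [IsSimpleGroup G] [IsSimpleGroup J] (FG : Frame G) (FJ : Frame J)
    (hG : Nat.card G = 50232960) (hJ : Nat.card J = 50232960) : Nonempty (G ≃* J) := by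
  obtain ⟨BG⟩ := exists_base FG hG
  obtain ⟨BJ⟩ := exists_base FJ hJ
  have LG := BG.exists_local_facts
  have LJ := BJ.exists_local_facts
  set P := pairSpan BG BJ with hP
  let p1 : P →* G := (MonoidHom.fst G J).comp P.subtype
  let p2 : P →* J := (MonoidHom.snd G J).comp P.subtype
  have hs1 : Function.Surjective p1 := by
    rw [← MonoidHom.range_eq_top, eq_top_iff, ← BG.span_top LG hG]
    refine (closure_le _).mpr ?_
    rintro _ ⟨g, -, rfl⟩
    exact ⟨⟨pairGen BG BJ g, pairGen_mem BG BJ g⟩, rfl⟩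
  have hs2 : Function.Surjective p2 := by
    rw [← MonoidHom.range_eq_top, eq_top_iff, ← BJ.span_top LJ hJ]
    refine (closure_le _).mpr ?_
    rintro _ ⟨g, -, rfl⟩
    exact ⟨⟨pairGen BG BJ g, pairGen_mem BG BJ g⟩, rfl⟩
  have hcard : Nat.card P ≤ 18468 * 8160 := card_pairSpan BG BJ LG LJ
  have hk1 : Nat.card p1.ker ≤ 3 := by
    have h := p1.ker.card_mul_index
    rw [index_ker, MonoidHom.range_eq_top.mpr hs1, card_top, hG] at h
    omega
  have hk2 : Nat.card p2.ker ≤ 3 := by
    have h := p2.ker.card_mul_index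
    rw [index_ker, MonoidHom.range_eq_top.mpr hs2, card_top, hJ] at h
    omega
  have hi1 : Function.Injective p1 := by
    rw [← MonoidHom.ker_eq_bot_iff]
    have hb := eq_bot_of_small (J := J) (by rw [hJ]; norm_num) (p1.ker.map p2) (Normal.map inferInstance p2 hs2)
      ((Nat.le_of_dvd Nat.card_pos (Subgroup.card_map_dvd (H := p1.ker) p2)).trans hk1)
    refine eq_bot_iff.mpr fun v hv => ?_
    have h2 : p2 v = 1 := mem_bot.mp (hb ▸ mem_map_of_mem p2 hv)
    exact mem_bot.mpr (Subtype.ext (Prod.ext hv h2))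
  have hi2 : Function.Injective p2 := by
    rw [← MonoidHom.ker_eq_bot_iff]
    have hb := eq_bot_of_small (J := G) (by rw [hG]; norm_num) (p2.ker.map p1) (Normal.map inferInstance p1 hs1)
      ((Nat.le_of_dvd Nat.card_pos (Subgroup.card_map_dvd (H := p2.ker) p1)).trans hk2)
    refine eq_bot_iff.mpr fun v hv => ?_
    have h1 : p1 v = 1 := mem_bot.mp (hb ▸ mem_map_of_mem p1 hv)
    exact mem_bot.mpr (Subtype.ext (Prod.ext h1 hv))
  exact ⟨(MulEquiv.ofBijective p1 ⟨hi1, hs1⟩).symm.trans (MulEquiv.ofBijective p2 ⟨hi2, hs2⟩)⟩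

end Cfsg.Agent.H52.JThree.Uniq
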