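import Cfsg.Agent.H52.JThree.Uniq.Iso
import Cfsg.Agent.S2135
import Cfsg.Agent.S1625

/-!
A group of J₃ type is isomorphic to J₃.
-/

set_option autoImplicit false
set_option linter.style.haveILetI false
set_option linter.unusedSectionVars false

namespace Cfsg.Agent.H52.JThree.Uniq

open Subgroup

/-- The frame of a group of J₃ type. -/
theorem exists_frame_of_cen {G : Type*} [Group G] [Finite G] [IsSimpleGroup G]
    (hone : ∀ x y : G, orderOf x = 2 → orderOf y = 2 → IsConj x y) {t : G} (ht : orderOf t = 2)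
    (Q : Subgroup (centralizer ({t} : Set G))) [Q.Normal] (hQ : Cfsg.IsExtraspecial 2 Q)
    (hcard : Nat.card Q = 32) (e : (centralizer ({t} : Set G)) ⧸ Q ≃* alternatingGroup (Fin 5)) :
    Nonempty (Frame G) ∧ Nat.card G = 50232960 := by
  haveI : Fact (Nat.Prime 2) := ⟨Nat.prime_two⟩
  have hG := card_of_cen hone ht Q hcard hQ e
  have h2c := centralizer_le (two_central_of_hone hone ht) Q hcard hQ e
  have h60 : Q.index = 60 := by
    rw [Subgroup.index_eq_card, Nat.card_congr e.toEquiv, Nat.card_eq_fintype_card]; rfl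
  obtain ⟨D⟩ := (H43.JTwo.setup_of_cen ht Q hQ hcard h2c h60).exists_coord
  obtain ⟨F, -⟩ := exists_frame D hone
  exact ⟨⟨F⟩, hG⟩

/-- A simple group with one class of involutions and centraliser of shape `2^{1+4}.A₅` is J₃. -/
theorem isoJ3_of_cen {G : Type*} [Group G] [Finite G] [IsSimpleGroup G]
    (hone : ∀ x y : G, orderOf x = 2 → orderOf y = 2 → IsConj x y) {t : G} (ht : orderOf t = 2)
    (Q : Subgroup (centralizer ({t} : Set G))) [Q.Normal] (hQ : Cfsg.IsExtraspecial 2 Q)
    (hcard : Nat.card Q = 32) (e : (centralizer ({t} : Set G)) ⧸ Q ≃* alternatingGroup (Fin 5)) :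
    Cfsg.Spor.IsoJ3 G := by
  obtain ⟨⟨FG⟩, hG⟩ := exists_frame_of_cen hone ht Q hQ hcard e
  letI : Fintype (GaloisField 2 2) := Fintype.ofFinite _
  have hF : Fintype.card (GaloisField 2 2) = 4 := by
    rw [← Nat.card_eq_fintype_card, GaloisField.card 2 2 (by norm_num)]; norm_num
  obtain ⟨ω, hω0, hω1⟩ : ∃ a : GaloisField 2 2, a ≠ 0 ∧ a ≠ 1 :=
    by
      classical
      by_contra hcon
      push Not at hcon
      have hsub : (Finset.univ : Finset (GaloisField 2 2)) ⊆ {0, 1} := fun a _ => by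
        rcases eq_or_ne a 0 with rfl | ha
        · simp
        · simp [hcon a ha]
      have := (Finset.card_le_card hsub).trans Finset.card_le_two
      rw [Finset.card_univ, hF] at this
      omega
  have hω : ω ^ 2 + ω + 1 = 0 := by
    have h3 : ω ^ 3 = 1 := by
      have := FiniteField.pow_card_sub_one_eq_one ω hω0
      rwa [hF] at this
    exact (mul_eq_zero.mp (show (ω - 1) * (ω ^ 2 + ω + 1) = 0 by linear_combination h3)).resolve_left
      (sub_ne_zero.mpr hω1)
  obtain ⟨-, -, hJ, hsimp⟩ := Cfsg.Agent.S1625.result (GaloisField 2 2) hF ω hω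
  haveI := hsimp
  haveI : Finite (Cfsg.Spor.J3 (GaloisField 2 2) ω) := Nat.finite_of_card_ne_zero (by rw [hJ]; norm_num)
  obtain ⟨honeJ, s, hs, QJ, hQn, hQJ, hcJ, -, -, ⟨eJ⟩⟩ := Cfsg.Agent.S2135.result hF ω hω
  haveI := hQn
  obtain ⟨⟨FJ⟩, hJ'⟩ := exists_frame_of_cen honeJ hs QJ hQJ hcJ eJ
  exact ⟨GaloisField 2 2, inferInstance, inferInstance, ω, hF, hω, nonempty_iso FG FJ hG hJ'⟩

end Cfsg.Agent.H52.JThree.Uniq
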