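import Cfsg.Agent.H52.JThree.Uniq.Base

/-!
The relations of the generators coming from the normaliser of the subgroup of order sixteen and from the
line.
-/

set_option autoImplicit false
set_option maxRecDepth 10000
set_option linter.style.haveILetI false
set_option linter.unusedSectionVars false

namespace Cfsg.Agent.H52.JThree.Uniq

open Sixteen Code

variable {G : Type*} [Group G] {F : Frame G} (B : Base F)

namespace Base

/-- The element of order three. -/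
def x : G := B.t ^ 5

/-- The element of order five. -/
def y : G := B.t ^ 3

/-- The basic involution. -/
def u (_B : Base F) : G := P F 1

theorem x_real : Real F xM B.x := real_pow F B.t_real 5

theorem y_real : Real F yM B.y := real_pow F B.t_real 3

theorem σ_inv : B.σ⁻¹ = B.σ := inv_eq_of_mul_eq_one_right B.σσ

theorem w_inv : B.w⁻¹ = B.w := inv_eq_of_mul_eq_one_right B.ww

theorem x_three : B.x ^ 3 = 1 := by rw [x, ← pow_mul]; exact B.t15

theorem y_five : B.y ^ 5 = 1 := by rw [y, ← pow_mul]; exact B.t15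

theorem xy : B.x * B.y = B.y * B.x := (Commute.pow_pow_self B.t 5 3).eq

theorem uu : B.u * B.u = 1 := P_sq F (by norm_num)

theorem u_inv : B.u⁻¹ = B.u := inv_eq_of_mul_eq_one_right B.uu

theorem σ_pow (n : ℕ) : B.σ * B.t ^ n * B.σ⁻¹ = B.t ^ (4 * n) := by rw [← conj_pow, B.σt, pow_mul]

theorem σ_x : B.σ * B.x = B.x * B.σ := by
  have h := B.σ_pow 5
  rw [show (4 * 5 : ℕ) = 15 + 5 from rfl, pow_add, B.t15, one_mul] at h
  exact mul_inv_eq_iff_eq_mul.mp h

theorem σ_y : B.σ * B.y * B.σ⁻¹ = B.y⁻¹ := by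
  rw [y, B.σ_pow 3]
  refine eq_inv_of_mul_eq_one_right ?_
  rw [← pow_add]
  exact B.t15

theorem w_pow (n : ℕ) : B.w * B.t ^ n * B.w⁻¹ = B.t ^ (14 * n) := by
  rw [← conj_pow, B.w_inv, B.wt, pow_mul]

theorem w_x : B.w * B.x * B.w⁻¹ = B.x⁻¹ := by
  rw [x, B.w_pow 5]
  refine eq_inv_of_mul_eq_one_right ?_
  rw [← pow_add, show (5 + 14 * 5 : ℕ) = 15 * 5 from rfl, pow_mul, B.t15, one_pow]

theorem w_y : B.w * B.y * B.w⁻¹ = B.y⁻¹ := by
  rw [y, B.w_pow 3]
  refine eq_inv_of_mul_eq_one_right ?_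
  rw [← pow_add, show (3 + 14 * 3 : ℕ) = 15 * 3 from rfl, pow_mul, B.t15, one_pow]

theorem conj_P (n : ℕ) : B.t ^ n * B.u * (B.t ^ n)⁻¹ = P F (eP n) :=
  real_pow F B.t_real n 1 (by norm_num)

theorem σ_u : B.σ * B.u = B.u * B.σ := by
  have h := B.σ_real 1 (by norm_num)
  rw [map_facts.2.2.2.2.2.2.2.2.1] at h
  exact mul_inv_eq_iff_eq_mul.mp h

theorem q_u : B.q * B.u = B.u * B.q := by
  have h := B.q_real 1 (by norm_num)
  rw [map_facts.2.2.2.2.2.2.2.1] at h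
  exact mul_inv_eq_iff_eq_mul.mp h

theorem eq_of_real {M : ℕ} {g g' : G} (h : Real F M g) (h' : Real F M g') (hg : g * B.x = B.x * g)
    (hg' : g' * B.x = B.x * g') : g = g' := by
  obtain ⟨v, hv, he⟩ := real_id F (g := g'⁻¹ * g) (fun z hz => by
    rw [idM_app z hz, show g'⁻¹ * g * P F z * (g'⁻¹ * g)⁻¹ = g'⁻¹ * (g * P F z * g⁻¹) * g' by group, h z hz,
      ← h' z hz]
    group)
  have hc : (g'⁻¹ * g) * B.x = B.x * (g'⁻¹ * g) :=
    Commute.mul_left (Commute.inv_left (show Commute g' B.x from hg')) hg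
  rw [he] at hc
  have hfix : app xM v = v := P_inj F (app_lt _ _) hv (by
    rw [← B.x_real v hv, ← hc, mul_inv_cancel_right])
  rw [(xM_solve.1 v hv hfix), P_zero] at he
  exact (inv_mul_eq_one.mp he).symm

theorem eq_one_of_real {g : G} (h : Real F idM g) (hg : g * B.x = B.x * g) : g = 1 :=
  B.eq_of_real h (real_one F) hg (by simp)

theorem q_comm : Commute B.q B.x := B.q_x

theorem y_comm : Commute B.y B.x := B.xy.symm

theorem qq : B.q * B.q = 1 :=
  B.eq_one_of_real (map_facts.1 ▸ real_comp F B.q_real B.q_real) (B.q_comm.mul_left B.q_comm)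

theorem q_inv : B.q⁻¹ = B.q := inv_eq_of_mul_eq_one_right B.qq

theorem qs_two : (B.q * B.σ) ^ 2 = 1 :=
  B.eq_one_of_real (map_facts.2.2.2.2.1 ▸ real_pow F (real_comp F B.q_real B.σ_real) 2)
    ((B.q_comm.mul_left B.σ_x).pow_left 2)

theorem q_σ : B.q * B.σ = B.σ * B.q := by
  have h := B.qs_two
  rw [pow_two, mul_eq_one_iff_eq_inv, mul_inv_rev, B.σ_inv, B.q_inv] at h
  exact h

theorem qy_three : (B.q * B.y) ^ 3 = 1 :=
  B.eq_one_of_real (map_facts.2.2.2.2.2.1 ▸ real_pow F (real_comp F B.q_real B.y_real) 3)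
    ((B.q_comm.mul_left B.y_comm).pow_left 3)

theorem qsy_five : (B.q * B.σ * B.y) ^ 5 = 1 :=
  B.eq_one_of_real (map_facts.2.2.2.2.2.2.1 ▸ real_pow F (real_comp F (real_comp F B.q_real B.σ_real) B.y_real) 5)
    (((B.q_comm.mul_left B.σ_x).mul_left B.y_comm).pow_left 5)

theorem eP_lt (n : ℕ) : eP n < 16 := app_lt _ _

/-- The conjugates of `u` under powers of `t`. -/
def e (n : ℕ) : G := B.t ^ n * B.u * (B.t ^ n)⁻¹

theorem e_eq (n : ℕ) : B.e n = P F (eP n) := B.conj_P n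

theorem e_comm (i j : ℕ) : B.e i * B.e j = B.e j * B.e i := by
  rw [e_eq, e_eq, P_comm F (eP_lt i) (eP_lt j)]

theorem e_sq (i : ℕ) : B.e i * B.e i = 1 := by rw [e_eq, P_sq F (eP_lt i)]

theorem e_four : B.e 4 = B.e 0 * B.e 1 := by
  simp only [e_eq]
  rw [← P_xor F (eP_lt 0) (eP_lt 1), map_facts.2.2.2.2.2.2.2.2.2.2.2.2.1]

theorem q_e_one : B.q * B.e 1 * B.q⁻¹ = B.e 0 * B.e 2 := by
  simp only [e_eq]
  rw [← P_xor F (eP_lt 0) (eP_lt 2), B.q_real _ (eP_lt 1), map_facts.2.2.2.2.2.2.2.2.2.1]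

theorem q_e_two : B.q * B.e 2 * B.q⁻¹ = B.e 0 * B.e 1 := by
  simp only [e_eq]
  rw [← P_xor F (eP_lt 0) (eP_lt 1), B.q_real _ (eP_lt 2), map_facts.2.2.2.2.2.2.2.2.2.2.1]

theorem q_e_three : B.q * B.e 3 * B.q⁻¹ = B.e 1 * B.e 2 * B.e 3 := by
  simp only [e_eq]
  rw [← P_xor F (eP_lt 1) (eP_lt 2), ← P_xor F (xor_lt (eP_lt 1) (eP_lt 2)) (eP_lt 3), B.q_real _ (eP_lt 3),
    map_facts.2.2.2.2.2.2.2.2.2.2.2.1]

theorem ux_three : (B.u * B.x) ^ 3 = 1 := by
  have h : (B.u * B.x) ^ 3 = B.e 0 * B.e 5 * B.e 10 * B.t ^ 15 := by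
    rw [e, e, e, x, pow_succ, pow_two, pow_zero, show B.t ^ 10 = B.t ^ 5 * B.t ^ 5 from pow_add B.t 5 5,
      show B.t ^ 15 = B.t ^ 5 * B.t ^ 5 * B.t ^ 5 by rw [← pow_add, ← pow_add]]
    group
  obtain ⟨-, -, -, -, -, -, -, -, -, -, -, -, -, h0, h5, h10, -⟩ := map_facts
  rw [h, B.t15, mul_one]
  simp only [e_eq]
  rw [h0, h5, h10, ← P_xor F (by norm_num) (by norm_num), show Nat.xor 1 2 = 3 from rfl,
    ← P_xor F (by norm_num) (by norm_num), show Nat.xor 3 3 = 0 from rfl, P_zero]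

theorem σ_ne_P {v : ℕ} (hv : v < 16) : B.σ ≠ P F v := by
  intro he
  obtain ⟨-, -, -, -, -, -, -, -, -, -, -, -, -, -, -, -, -, -, hne⟩ := map_facts
  refine hne (code_ext (by decide) (by decide) fun e he' => ?_)
  have he16 : e < 16 := by simp only [List.mem_cons, List.not_mem_nil, or_false] at he'; omega
  refine real_ext F B.σ_real (fun z hz => ?_) he16
  rw [he, idM_app z hz, P_comm F hv hz, mul_inv_cancel_right]

end Base

end Cfsg.Agent.H52.JThree.Uniq
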