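import Cfsg.Agent.H52.JThree.Uniq.Cx
import Cfsg.Agent.H52.JThree.Tc.Check

/-!
The generators satisfy the relators of one of the four logs.
-/

set_option autoImplicit false
set_option maxRecDepth 10000
set_option linter.style.haveILetI false
set_option linter.unusedSectionVars false

namespace Cfsg.Agent.H52.JThree.Uniq

open Sixteen

variable {G : Type*} [Group G] {F : Frame G} (B : Base F)

/-- The relators common to the logs. -/
def commonRels : List (List ℕ) :=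
  [[2, 2, 2],
   [0, 0, 0, 0, 0],
   [2, 0, 3, 1],
   [4, 4],
   [5, 5],
   [6, 6],
   [7, 7],
   [4, 2, 4, 3],
   [4, 0, 4, 0],
   [7, 2, 7, 2],
   [7, 0, 7, 0],
   [4, 5, 4, 5],
   [4, 6, 4, 6],
   [4, 7, 4, 7],
   [6, 2, 6, 3],
   [6, 5, 6, 5],
   [4, 3, 0, 0, 4, 2, 0, 0],
   [7, 3, 0, 0, 7, 3, 0, 0],
   [5, 7, 5, 7, 5, 7],
   [5, 3, 0, 0, 5, 2, 1, 1, 5, 3, 0, 0, 5, 2, 1, 1],
   [5, 2, 1, 5, 3, 0, 5, 2, 1, 5, 3, 0],
   [5, 0, 5, 1, 5, 0, 5, 1],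
   [3, 1, 1, 5, 2, 0, 0, 5, 3, 0, 0, 5, 2, 1, 1],
   [6, 4, 6, 4],
   [6, 3, 0, 0, 5, 2, 1, 1, 6, 5, 2, 1, 5, 3, 0],
   [6, 2, 1, 5, 3, 0, 6, 5, 3, 0, 0, 5, 2, 1, 1],
   [6, 0, 5, 1, 6, 3, 0, 0, 5, 3, 0, 0, 5, 3, 0, 0, 5, 1],
   [6, 0, 6, 0, 6, 0],
   [6, 4, 0, 6, 4, 0, 6, 4, 0, 6, 4, 0, 6, 4, 0],
   [6, 7, 6, 7, 6, 7, 6, 7, 4],
   [5, 2, 5, 2, 5, 2]]

/-- The relator of the kind, with its two values. -/
def kindRel : List ℕ := [2, 5, 6, 7, 2, 5, 6, 7, 2, 5, 6, 7, 2, 5, 6, 7, 2, 5, 6, 7]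

/-- The relator from the centraliser of `x`. -/
def centRel : List ℕ := [7, 6, 7, 6, 0, 7, 6, 7, 6, 0, 7, 6, 7, 6, 0, 7, 6, 7, 6, 0, 7, 6, 7, 6, 0]

namespace Base

/-- The letters. -/
def gen : ℕ → G
  | 0 => B.y
  | 1 => B.y⁻¹
  | 2 => B.x
  | 3 => B.x⁻¹
  | 4 => B.σ
  | 5 => B.u
  | 6 => B.q
  | 7 => B.w
  | _ => 1

theorem gen_iv : ∀ g, B.gen (Tc.iv g) = (B.gen g)⁻¹
  | 0 => rfl
  | 1 => (inv_inv B.y).symm
  | 2 => rfl
  | 3 => (inv_inv B.x).symm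
  | 4 => B.σ_inv.symm
  | 5 => B.u_inv.symm
  | 6 => B.q_inv.symm
  | 7 => B.w_inv.symm
  | n + 8 => by
    have h : Tc.iv (n + 8) = n + 8 := by
      have hb : Nat.blt (n + 8) 4 = false := by
        rw [Bool.eq_false_iff]; intro h'; simp only [Nat.blt_eq] at h'; omega
      simp [Tc.iv, hb]
    rw [h]
    exact inv_one.symm

theorem conj_swap {a b : G} (ha : a * a = 1) (h : a * b = b * a) : a * b * a * b⁻¹ = 1 := by
  rw [h, mul_assoc b a a, ha, mul_one, mul_inv_cancel]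

theorem comm_sq {a b : G} (ha : a * a = 1) (hb : b * b = 1) (h : a * b = b * a) :
    a * b * (a * b) = 1 := by
  rw [mul_assoc, ← mul_assoc b a b, ← h, mul_assoc a b b, hb, mul_one, ha]

variable (L : Local B)
include L

theorem common_ok : ∀ r ∈ commonRels, (r.map B.gen).prod = 1 := by
  have hti : ∀ a : G, B.σ * a * B.σ = B.σ * a * B.σ⁻¹ := fun a => by rw [B.σ_inv]
  have hwi : ∀ a : G, B.w * a * B.w = B.w * a * B.w⁻¹ := fun a => by rw [B.w_inv]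
  have hqi : ∀ a : G, B.q * a * B.q = B.q * a * B.q⁻¹ := fun a => by rw [B.q_inv]
  have e1 : B.x⁻¹ * B.y * B.y * B.u * (B.x * B.y⁻¹ * B.y⁻¹) = B.e 1 := by simp only [e, x, y]; group
  have e2 : B.x * B.y⁻¹ * B.u * (B.x⁻¹ * B.y) = B.e 2 := by simp only [e, x, y]; group
  have e3 : B.y * B.u * B.y⁻¹ = B.e 3 := by simp only [e, y]
  have e0 : B.e 0 = B.u := by simp [e]
  have t4 : B.x⁻¹ * B.y⁻¹ * B.y⁻¹ = B.t ^ 4 := by
    rw [← one_mul (B.x⁻¹ * B.y⁻¹ * B.y⁻¹), ← B.t15]; simp only [x, y]; group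
  have e4 : B.x⁻¹ * B.y⁻¹ * B.y⁻¹ * B.u * (B.x * B.y * B.y) = B.e 4 := by
    rw [e, ← t4]
    simp only [x, y]; group
  have e123 : (B.x⁻¹ * B.y * B.y * B.u) * (B.x⁻¹ * B.y * B.y * B.u) * (B.x⁻¹ * B.y * B.y * B.u) * B.y⁻¹ =
      B.e 1 * B.e 2 * B.e 3 := by simp only [e, x, y]; group
  have p2 : ∀ {a : G}, a ^ 2 = a * a := fun {a} => pow_two a
  have hxI : B.x * B.x * B.x = 1 := by rw [← B.x_three, pow_succ, pow_two]
  have hyI : B.y * B.y * B.y * B.y * B.y = 1 := by rw [← B.y_five]; simp [pow_succ]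
  have h8 : B.σ * B.y * B.σ * B.y = 1 := by rw [hti, B.σ_y, inv_mul_cancel]
  have h9 : B.w * B.x * B.w * B.x = 1 := by rw [hwi, B.w_x, inv_mul_cancel]
  have h10 : B.w * B.y * B.w * B.y = 1 := by rw [hwi, B.w_y, inv_mul_cancel]
  have h7 := conj_swap B.σσ B.σ_x
  have h11 := comm_sq B.σσ B.uu B.σ_u
  have h12 := comm_sq B.σσ B.qq B.q_σ.symm
  have h13 := comm_sq B.σσ B.ww B.σw
  have h14 : B.q * B.x * B.q * B.x⁻¹ = 1 := conj_swap B.qq B.q_comm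
  have h15 := comm_sq B.qq B.uu B.q_u
  have h16 : B.σ * (B.x⁻¹ * B.y * B.y) * B.σ * (B.x * B.y * B.y) = 1 := by
    rw [hti, show B.x⁻¹ * B.y * B.y = B.t by simp only [x, y]; group, B.σt, ← B.t15]
    simp only [x, y]; group
  have h17 : B.w * (B.x⁻¹ * B.y * B.y) * B.w * (B.x⁻¹ * B.y * B.y) = 1 := by
    rw [show B.x⁻¹ * B.y * B.y = B.t by simp only [x, y]; group, B.wt, ← pow_succ, B.t15]
  have h19 : B.u * B.e 1 * (B.u * B.e 1) = 1 := comm_sq B.uu (B.e_sq 1) (e0 ▸ B.e_comm 0 1)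
  have h20 : B.u * B.e 2 * (B.u * B.e 2) = 1 := comm_sq B.uu (B.e_sq 2) (e0 ▸ B.e_comm 0 2)
  have h21 : B.u * B.e 3 * (B.u * B.e 3) = 1 := comm_sq B.uu (B.e_sq 3) (e0 ▸ B.e_comm 0 3)
  have h22 : B.e 4 * (B.u * B.e 1) = 1 := by rw [B.e_four, e0]; exact h19
  have h24 : B.q * B.e 1 * B.q * (B.u * B.e 2) = 1 := by rw [hqi, B.q_e_one, e0]; exact h20
  have h25 : B.q * B.e 2 * B.q * (B.u * B.e 1) = 1 := by rw [hqi, B.q_e_two, e0]; exact h19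
  have h26 : B.q * B.e 3 * B.q * (B.e 1 * B.e 2 * B.e 3) = 1 := by
    rw [hqi, B.q_e_three]
    refine comm_sq ?_ (B.e_sq 3) (Commute.mul_left (B.e_comm 1 3) (B.e_comm 2 3))
    exact comm_sq (B.e_sq 1) (B.e_sq 2) (B.e_comm 1 2)
  rw [← e1] at h19 h22 h24 h25
  rw [← e4] at h22
  rw [← e2] at h20 h24 h25
  rw [← e3] at h21
  rw [← e123, ← e3] at h26
  have h18 := B.rel
  have h27 := B.qy_three
  have h28 := B.qsy_five
  have h30 := B.ux_three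
  have h29 : (B.q * B.w) ^ 4 * B.σ = 1 := by rw [L.qw, B.σσ]
  have h23 := B.qs_two
  simp only [commonRels, List.forall_mem_cons, List.not_mem_nil, IsEmpty.forall_iff, implies_true, and_true,
    List.map_cons, List.map_nil, List.prod_cons, List.prod_nil, mul_one, gen]
  simp only [pow_succ, pow_zero, one_mul, mul_assoc] at *
  have hu : P F 1 = B.u := rfl
  rw [hu] at h18
  have hxy : B.x * (B.y * (B.x⁻¹ * B.y⁻¹)) = 1 := by
    rw [← mul_assoc, B.xy, mul_assoc, mul_inv_cancel_left, mul_inv_cancel]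
  refine ⟨?_, ?_, hxy, B.σσ, B.uu, B.qq, B.ww, ?_, ?_, ?_, ?_, ?_, ?_, ?_, ?_, ?_, ?_, ?_, ?_, ?_, ?_, ?_, ?_, ?_,
    ?_, ?_, ?_, ?_, ?_, ?_, ?_⟩
  all_goals assumption

theorem kind_val : (kindRel.map B.gen).prod = B.σ ∨ (kindRel.map B.gen).prod = 1 := by
  have h : (kindRel.map B.gen).prod = (B.x * B.u * B.q * B.w) ^ 5 := by
    simp only [kindRel, List.map_cons, List.map_nil, List.prod_cons, List.prod_nil, mul_one, gen, pow_succ,
      pow_zero, one_mul, mul_assoc]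
  rw [h]
  exact L.kind

theorem cent_val [Finite G] : (centRel.map B.gen).prod = 1 ∨ (centRel.map B.gen).prod = B.x ∨
    (centRel.map B.gen).prod = B.x⁻¹ := by
  have h : (centRel.map B.gen).prod = (B.w * B.q * B.w * B.q * B.y) ^ 5 := by
    simp only [centRel, List.map_cons, List.map_nil, List.prod_cons, List.prod_nil, mul_one, gen, pow_succ,
      pow_zero, one_mul, mul_assoc]
  rw [h]
  obtain ⟨k, hk⟩ := Subgroup.mem_zpowers_iff.mp (B.wqwqy_pow L)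
  rw [← hk, ← zpow_mod_orderOf, B.x_order]
  have h0 := Int.emod_nonneg k (show ((3 : ℕ) : ℤ) ≠ 0 by norm_num)
  have h3 := Int.emod_lt_of_pos k (show (0 : ℤ) < ((3 : ℕ) : ℤ) by norm_num)
  rcases (show k % ((3 : ℕ) : ℤ) = 0 ∨ k % ((3 : ℕ) : ℤ) = 1 ∨ k % ((3 : ℕ) : ℤ) = 2 by omega) with e | e | e <;>
    rw [e]
  · exact Or.inl (zpow_zero _)
  · exact Or.inr (Or.inl (zpow_one _))
  · refine Or.inr (Or.inr (eq_inv_of_mul_eq_one_left ?_))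
    rw [← zpow_add_one, show ((2 : ℤ) + 1) = ((3 : ℕ) : ℤ) from rfl, zpow_natCast, B.x_three]

end Base

end Cfsg.Agent.H52.JThree.Uniq
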